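import Groth.Agent.Dual.H371.IdealMul
import Mathlib.CategoryTheory.Subobject.Lattice

/-!
# The Artin-Rees equality for `I^n F ∩ G` on a Noetherian scheme, as an equality of subobjects
-/

set_option autoImplicit false
universe u

open CategoryTheory CategoryTheory.Limits AlgebraicGeometry Opposite

namespace Groth.Agent.Coherent.K47.ArtinRees

open Groth.Agent.FormalB Groth.Agent.FormalB.TrKQuot Groth.Agent.Dual.H371.IdealMul

section Alg

/-- Artin-Rees with an arbitrary constant above a given one. -/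
theorem artinRees_mod {R M : Type*} [CommRing R] [IsNoetherianRing R] [AddCommGroup M] [Module R M]
    [Module.Finite R M] (I : Ideal R) (N : Submodule R M) :
    ∃ k : ℕ, ∀ c, k ≤ c → ∀ n, c ≤ n → I ^ n • (⊤ : Submodule R M) ⊓ N =
      I ^ (n - c) • (I ^ c • (⊤ : Submodule R M) ⊓ N) := by
  obtain ⟨k, hk⟩ := I.exists_pow_inf_eq_pow_smul N
  refine ⟨k, fun c hc n hn => ?_⟩
  rw [hk n (hc.trans hn), hk c hc, ← Submodule.mul_smul, ← pow_add]
  congr 2
  omega

end Alg

variable {X : Scheme.{u}} {F G : X.Modules} (ι : G ⟶ F)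

/-- The submodule `K · F ∩ G` of `G`, as a kernel. -/
noncomputable abbrev A (K : X.IdealSheafData) : X.Modules := kernel (ι ≫ kπ K F)

/-- The inclusion `K · F ∩ G ⟶ F`. -/
noncomputable abbrev a (K : X.IdealSheafData) : A ι K ⟶ F := kernel.ι (ι ≫ kπ K F) ≫ ι

theorem isQCoh_A (K : X.IdealSheafData) (hG : Coh.IsQCoh G) (hF : Coh.IsQCoh F) : Coh.IsQCoh (A ι K) :=
  CohqB.QC4.isQuasicoherent_kernel _ hG (isQCoh_kq K hF)

variable [Mono ι]

theorem mk_a (K : X.IdealSheafData) :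
    Subobject.mk (a ι K) = Subobject.mk (Dual3.idealMulι K F) ⊓ Subobject.mk ι := by
  apply le_antisymm
  · refine le_inf ?_ ?_
    · obtain ⟨l, hl⟩ := exists_lift K (a ι K) (by rw [Category.assoc]; exact kernel.condition _)
      exact Subobject.mk_le_mk_of_comm l hl
    · exact Subobject.mk_le_mk_of_comm (kernel.ι _) rfl
  · have h1 : (Subobject.mk (Dual3.idealMulι K F) ⊓ Subobject.mk ι).Factors
        (Subobject.mk (Dual3.idealMulι K F) ⊓ Subobject.mk ι).arrow := Subobject.factors_self _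
    rw [Subobject.inf_factors] at h1
    obtain ⟨h2, h3⟩ := h1
    have h2' : ∃ u : Subobject.underlying.obj (Subobject.mk (Dual3.idealMulι K F) ⊓ Subobject.mk ι) ⟶
        (Dual3.idealMul K).obj F, u ≫ Dual3.idealMulι K F = Subobject.arrow _ :=
      (Subobject.mk_factors_iff (Dual3.idealMulι K F) _).1 h2
    have h3' : ∃ v : Subobject.underlying.obj (Subobject.mk (Dual3.idealMulι K F) ⊓ Subobject.mk ι) ⟶
        G, v ≫ ι = Subobject.arrow _ := (Subobject.mk_factors_iff ι _).1 h3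
    obtain ⟨u, hu⟩ := h2'
    obtain ⟨v, hv⟩ := h3'
    refine Subobject.le_of_comm (kernel.lift _ v ?_ ≫ (Subobject.underlyingIso (a ι K)).inv) ?_
    · have h4 : v ≫ ι = u ≫ Dual3.idealMulι K F := hv.trans hu.symm
      rw [← Category.assoc, h4, Category.assoc, idealMulι_kπ, comp_zero]
    · rw [Category.assoc, Subobject.underlyingIso_arrow]
      rw [← Category.assoc, kernel.lift_ι]
      exact hv

omit [Mono ι] in
/-- Sections of `K · F ∩ G` over an affine open. -/
theorem mem_iff_A (K : X.IdealSheafData) (hF : Coh.IsQCoh F) (U : X.affineOpens) (s : Γ(G, U.1)) :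
    (∃ t : Γ(A ι K, U.1), (kernel.ι (ι ≫ kπ K F)).app U.1 t = s) ↔
      ι.app U.1 s ∈ K.ideal U • (⊤ : Submodule Γ(X, U.1) Γ(F, U.1)) := by
  rw [← kπ_app_eq_zero_iff K hF]
  constructor
  · rintro ⟨t, rfl⟩
    have := congr((Scheme.Modules.Hom.app $(kernel.condition (ι ≫ kπ K F)) U.1) t)
    exact this
  · exact fun h => Sga67.IdealTorsion.exists_kernel_ι (ι ≫ kπ K F) U.1 s h

/-- The Artin-Rees equality, for the kernels `A`. -/
theorem artinRees_A [IsNoetherian X] (hF : Coh.IsCoh F) (hG : Coh.IsQCoh G) (I : X.IdealSheafData) :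
    ∃ c : ℕ, ∀ n : ℕ, c ≤ n →
      Subobject.mk (Dual3.idealMulι (I ^ (n - c)) (A ι (I ^ c)) ≫ a ι (I ^ c)) =
        Subobject.mk (a ι (I ^ n)) := by
  have hpow : ∀ (m : ℕ) (U : X.affineOpens), (I ^ m).ideal U = (I.ideal U) ^ m := by
    intro m U
    rw [Scheme.IdealSheafData.ideal_pow, Pi.pow_apply]
  -- linear maps on sections
  let ιU (U : X.affineOpens) : Γ(G, U.1) →ₗ[Γ(X, U.1)] Γ(F, U.1) :=
    { toFun := ι.app U.1
      map_add' := fun _ _ => map_add _ _ _
      map_smul' := fun _ _ => Scheme.Modules.Hom.app_smul _ _ _ }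
  let aU (m : ℕ) (U : X.affineOpens) : Γ(A ι (I ^ m), U.1) →ₗ[Γ(X, U.1)] Γ(F, U.1) :=
    { toFun := (a ι (I ^ m)).app U.1
      map_add' := fun _ _ => map_add _ _ _
      map_smul' := fun _ _ => Scheme.Modules.Hom.app_smul _ _ _ }
  have haU : ∀ m U, LinearMap.range (aU m U) =
      (I.ideal U) ^ m • (⊤ : Submodule Γ(X, U.1) Γ(F, U.1)) ⊓ LinearMap.range (ιU U) := by
    intro m U
    ext s
    constructor
    · rintro ⟨t, rfl⟩
      refine ⟨?_, ⟨(kernel.ι (ι ≫ kπ (I ^ m) F)).app U.1 t, rfl⟩⟩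
      have := (mem_iff_A ι (I ^ m) hF.1 U _).1 ⟨t, rfl⟩
      rw [hpow] at this
      exact this
    · rintro ⟨h1, ⟨g, rfl⟩⟩
      obtain ⟨t, ht⟩ := (mem_iff_A ι (I ^ m) hF.1 U g).2 (by rw [hpow]; exact h1)
      exact ⟨t, congrArg (ι.app U.1) ht⟩
  have h1 : ∀ U : X.affineOpens, ∃ k : ℕ, ∀ c, k ≤ c → ∀ n, c ≤ n →
      LinearMap.range (aU n U) = (I.ideal U) ^ (n - c) • LinearMap.range (aU c U) := by
    intro U
    have hN : IsNoetherianRing Γ(X, U.1) := IsLocallyNoetherian.component_noetherian U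
    have hfin : Module.Finite Γ(X, U.1) Γ(F, U.1) := CohqA.FinSec.finite_sections U.2 hF.1 hF.2
    obtain ⟨k, hk⟩ := artinRees_mod (I.ideal U) (LinearMap.range (ιU U))
    exact ⟨k, fun c hc n hn => by rw [haU, haU, hk c hc n hn]⟩
  choose k hk using h1
  obtain ⟨S, hSfin, hS⟩ : ∃ S : Set X.affineOpens, S.Finite ∧ ∀ x : X, ∃ U ∈ S, x ∈ U.1 := by
    have h := (isCompact_univ (X := X)).elim_finite_subcover (fun U : X.affineOpens => (U.1 : Set X))
      (fun U => U.1.2) (fun x _ => by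
        obtain ⟨_, ⟨U, hU, rfl⟩, hxU, -⟩ :=
          X.isBasis_affineOpens.exists_subset_of_mem_open (Set.mem_univ x) isOpen_univ
        exact Set.mem_iUnion.2 ⟨⟨U, hU⟩, hxU⟩)
    obtain ⟨t, ht⟩ := h
    refine ⟨t, t.finite_toSet, fun x => ?_⟩
    obtain ⟨U, hU, hx⟩ := Set.mem_iUnion₂.1 (ht (Set.mem_univ x))
    exact ⟨U, hU, hx⟩
  refine ⟨hSfin.toFinset.sup k, fun n hn => ?_⟩
  set c := hSfin.toFinset.sup k with hc
  have hkc : ∀ U ∈ S, k U ≤ c := fun U hU => Finset.le_sup (f := k) (hSfin.mem_toFinset.2 hU)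
  have hAn := isQCoh_A ι (I ^ n) hG hF.1
  have hAc := isQCoh_A ι (I ^ c) hG hF.1
  have hAA := isQCoh_obj (I ^ (n - c)) hAc
  apply le_antisymm
  · -- `I^(n-c) · A_c ⊆ A_n`
    have h2 : (Dual3.idealMulι (I ^ (n - c)) (A ι (I ^ c)) ≫ kernel.ι (ι ≫ kπ (I ^ c) F)) ≫
        ι ≫ kπ (I ^ n) F = 0 := by
      refine ModPowAff2.eq_zero_of_affine_cover hAA _ fun x => ?_
      obtain ⟨U, hU, hx⟩ := hS x
      refine ⟨U.1, hx, U.2, fun t => ?_⟩
      refine (kπ_app_eq_zero_iff (I ^ n) hF.1 U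
        ((a ι (I ^ c)).app U.1 ((Dual3.idealMulι (I ^ (n - c)) (A ι (I ^ c))).app U.1 t))).2 ?_
      have h3 := app_mem (I ^ (n - c)) hAc U t
      rw [hpow] at h3 ⊢
      have h4 : aU c U ((Dual3.idealMulι (I ^ (n - c)) (A ι (I ^ c))).app U.1 t) ∈
          (I.ideal U) ^ (n - c) • LinearMap.range (aU c U) := by
        have h5 := Submodule.mem_map_of_mem (f := aU c U) h3
        rwa [Submodule.map_smul'', Submodule.map_top] at h5
      rw [← hk U c (hkc U hU) n hn, haU] at h4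
      exact h4.1
    refine Subobject.mk_le_mk_of_comm (kernel.lift _ _ h2) ?_
    rw [← Category.assoc, kernel.lift_ι, Category.assoc]
  · -- `A_n ⊆ I^(n-c) · A_c`
    have hle : I ^ n ≤ I ^ c := by
      intro U
      rw [hpow, hpow]
      exact Ideal.pow_le_pow_right hn
    -- the inclusion `A_n ⟶ A_c`
    have h2 : kernel.ι (ι ≫ kπ (I ^ n) F) ≫ ι ≫ kπ (I ^ c) F = 0 := by
      refine ModPowAff2.eq_zero_of_affine_cover hAn _ fun x => ?_
      obtain ⟨U, hU, hx⟩ := hS x
      refine ⟨U.1, hx, U.2, fun t => ?_⟩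
      refine (kπ_app_eq_zero_iff (I ^ c) hF.1 U ((a ι (I ^ n)).app U.1 t)).2 ?_
      exact Submodule.smul_mono_left (hle U) ((mem_iff_A ι (I ^ n) hF.1 U _).1 ⟨t, rfl⟩)
    obtain ⟨l, hl⟩ := exists_lift_of_cover (I ^ (n - c)) hAn hAc (kernel.lift _ _ h2) fun x => by
      obtain ⟨U, hU, hx⟩ := hS x
      refine ⟨U, hx, fun t => ?_⟩
      have h3 : aU n U t ∈ LinearMap.range (aU n U) := ⟨t, rfl⟩
      rw [hk U c (hkc U hU) n hn, ← Submodule.map_top, ← Submodule.map_smul''] at h3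
      obtain ⟨t', ht', htt⟩ := h3
      have h4 : (kernel.lift _ _ h2).app U.1 t = t' := by
        apply KQuot.injective_app_of_mono (a ι (I ^ c)) U.1
        refine Eq.trans ?_ htt.symm
        have h5 : kernel.lift _ _ h2 ≫ a ι (I ^ c) = a ι (I ^ n) := by
          rw [← Category.assoc, kernel.lift_ι]
        exact congr(($h5).app U.1 t)
      rw [h4, hpow]
      exact ht'
    refine Subobject.mk_le_mk_of_comm l ?_
    rw [← Category.assoc, hl, ← Category.assoc, kernel.lift_ι]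

/-- `J · M` for isomorphic subobjects. -/
theorem mk_idealMul_congr (J : X.IdealSheafData) {A : X.Modules} (a : A ⟶ F) [Mono a] :
    Subobject.mk (Dual3.idealMulι J (Subobject.underlying.obj (Subobject.mk a)) ≫
      (Subobject.mk a).arrow) = Subobject.mk (Dual3.idealMulι J A ≫ a) := by
  apply le_antisymm
  · refine Subobject.mk_le_mk_of_comm ((Dual3.idealMul J).map (Subobject.underlyingIso a).hom) ?_
    rw [← Category.assoc, Dual3.idealMul_map_ι, Category.assoc, Subobject.underlyingIso_hom_comp_eq_mk]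
  · refine Subobject.mk_le_mk_of_comm ((Dual3.idealMul J).map (Subobject.underlyingIso a).inv) ?_
    rw [← Category.assoc, Dual3.idealMul_map_ι, Category.assoc, Subobject.underlyingIso_arrow]

end Groth.Agent.Coherent.K47.ArtinRees
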