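import Groth.Agent.Sga67.CohBasic
import Groth.Agent.Dcoh.Restrict
import Groth.Agent.Dual.H367.Kill
import Groth.Agent.Dual.H371.IdealMul
import Groth.Agent.Localalg.VanTors
import Groth.Agent.FormalB.FormalLeft

/-!
# Extending morphisms from an open subscheme to `I^n G` (Deligne)

`X` Noetherian, `U` the complement of `V(I)`, `G` coherent.

* `exists_roof_qcoh`: a morphism `M₁|_U ⟶ M₂|_U` of quasi-coherent modules is a roof `M₁ ⟵ N ⟶ M₂`
  with `N` quasi-coherent and `N|_U ⟶ M₁|_U` an isomorphism;
* `exists_lift_idealMul`: if `p : P ⟶ G` is an isomorphism over `U` then `I^n G ⟶ G` factors through `p`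
  for large `n`.
-/

set_option autoImplicit false
universe u

open CategoryTheory CategoryTheory.Limits AlgebraicGeometry Opposite TopologicalSpace
open AlgebraicGeometry.Scheme.Modules
open Groth.Agent.Sga67.CohBasic

namespace Groth.Agent.Coherent.K47.DeligneHom

variable {X : Scheme.{u}}

theorem exists_roof_qcoh [IsNoetherian X] {U : Scheme.{u}} (j : U ⟶ X) [IsOpenImmersion j]
    {M₁ M₂ : X.Modules} (h₁ : Coh.IsQCoh M₁) (h₂ : Coh.IsQCoh M₂)
    (e : (restrictFunctor j).obj M₁ ⟶ (restrictFunctor j).obj M₂) :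
    ∃ (N : X.Modules) (p : N ⟶ M₁) (q : N ⟶ M₂), Coh.IsQCoh N ∧
      IsIso ((restrictFunctor j).map p) ∧
      (restrictFunctor j).map q = (restrictFunctor j).map p ≫ e := by
  have : PreservesFiniteLimits (restrictFunctor j) := inferInstance
  let adj := restrictAdjunction j
  let α : M₁ ⟶ (pushforward j).obj ((restrictFunctor j).obj M₂) :=
    adj.unit.app M₁ ≫ (pushforward j).map e
  let β : M₂ ⟶ (pushforward j).obj ((restrictFunctor j).obj M₂) := adj.unit.app M₂
  have hα : (restrictFunctor j).map α ≫ adj.counit.app _ = e := by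
    have h1 : (restrictFunctor j).map α =
        (restrictFunctor j).map (adj.unit.app M₁) ≫
          (restrictFunctor j).map ((pushforward j).map e) := (restrictFunctor j).map_comp _ _
    have h2 : (restrictFunctor j).map ((pushforward j).map e) ≫
        adj.counit.app ((restrictFunctor j).obj M₂) =
        adj.counit.app ((restrictFunctor j).obj M₁) ≫ e := adj.counit_naturality e
    have h3 : (restrictFunctor j).map (adj.unit.app M₁) ≫
        adj.counit.app ((restrictFunctor j).obj M₁) = 𝟙 _ := adj.left_triangle_components M₁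
    rw [h1, Category.assoc, h2, ← Category.assoc, h3]
    exact Category.id_comp e
  have hβ : (restrictFunctor j).map β ≫ adj.counit.app _ = 𝟙 _ := adj.left_triangle_components _
  have hc : IsIso (adj.counit.app ((restrictFunctor j).obj M₂)) := inferInstance
  have hβi : IsIso ((restrictFunctor j).map β) := by
    have : IsIso ((restrictFunctor j).map β ≫ adj.counit.app ((restrictFunctor j).obj M₂)) := by
      rw [hβ]; infer_instance
    exact IsIso.of_isIso_comp_right _ (adj.counit.app ((restrictFunctor j).obj M₂))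
  have hsq : IsPullback ((restrictFunctor j).map (Limits.pullback.fst α β))
      ((restrictFunctor j).map (Limits.pullback.snd α β)) ((restrictFunctor j).map α)
      ((restrictFunctor j).map β) := (IsPullback.of_hasPullback α β).map (restrictFunctor j)
  have hp : IsIso ((restrictFunctor j).map (Limits.pullback.fst α β)) := hsq.isIso_fst_of_isIso
  have hfac : (restrictFunctor j).map (Limits.pullback.snd α β) =
      (restrictFunctor j).map (Limits.pullback.fst α β) ≫ e := by
    have h := hsq.w
    calc (restrictFunctor j).map (Limits.pullback.snd α β)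
        = (restrictFunctor j).map (Limits.pullback.snd α β) ≫ (restrictFunctor j).map β ≫
            adj.counit.app ((restrictFunctor j).obj M₂) := by rw [hβ, Category.comp_id]
      _ = (restrictFunctor j).map (Limits.pullback.fst α β) ≫ (restrictFunctor j).map α ≫
            adj.counit.app ((restrictFunctor j).obj M₂) := by
          rw [← Category.assoc, ← h, Category.assoc]
      _ = (restrictFunctor j).map (Limits.pullback.fst α β) ≫ e := by rw [hα]
  have hj : Coh.IsQCoh ((pushforward j).obj ((restrictFunctor j).obj M₂)) :=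
    isQCoh_push j (Groth.Agent.CohqB.LocalQC.isQCoh_restrict j h₂)
  have hN : Coh.IsQCoh (Limits.pullback α β) := by
    have hk : Coh.IsQCoh (kernel (biprod.desc α (-β))) := by
      have h1 : Coh.IsQCoh (M₁ ⊞ M₂) := isQCoh_biprod h₁ h₂
      exact Groth.Agent.PerfA.QCohSerre.isQCoh_kernel _ h1 hj
    refine isQCoh_of_iso ?_ hk
    exact (kernelIsKernel (biprod.desc α (-β))).conePointUniqueUpToIso
      (Abelian.PullbackToBiproductIsKernel.isLimitPullbackToBiproduct α β)
  exact ⟨_, _, _, hN, hp, hfac⟩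

open Groth.Agent.FormalB Groth.Agent.FormalB.TrKQuot Groth.Agent.Dual.H371.IdealMul

theorem idealMulι_eq_zero_of_killed (K : X.IdealSheafData) {F : X.Modules}
    (h : ClSub.KilledByIdeal K F) : Dual3.idealMulι K F = 0 := by
  have := isIso_kπ K h
  rw [← cancel_mono (kπ K F), idealMulι_kπ, zero_comp]

/-- If `p : P ⟶ G` is an isomorphism over the complement `U` of `V(I)` then `I^n G ⟶ G` factors through
`p` for large `n`. -/
theorem exists_lift_idealMul [IsNoetherian X] (I : X.IdealSheafData) {U : Scheme.{u}} (j : U ⟶ X)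
    [IsOpenImmersion j] (hI : I.supportSetᶜ = Set.range j) {P G : X.Modules} (hP : Coh.IsQCoh P)
    (hG : Coh.IsCoh G) (p : P ⟶ G) (hp : IsIso ((restrictFunctor j).map p)) :
    ∃ (n : ℕ) (l : (Dual3.idealMul (I ^ n)).obj G ⟶ P), l ≫ p = Dual3.idealMulι (I ^ n) G := by
  -- a finite affine cover, and a coherent submodule `P' ⊆ P` with the same image in `G`
  obtain ⟨J, hJ, V, hV⟩ := Groth.Agent.Sga67.CohLoc.exists_finite_affine_cover X
  have hN : ∀ k, IsNoetherianRing Γ(X, (V k).1) := fun k => IsLocallyNoetherian.component_noetherian (V k)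
  have hfin : ∀ k, Module.Finite Γ(X, (V k).1) Γ(G, (V k).1) := fun k =>
    CohqA.FinSec.finite_sections (V k).2 hG.1 hG.2
  have hNG : ∀ k, IsNoetherian Γ(X, (V k).1) Γ(G, (V k).1) := fun k =>
    haveI := hN k; haveI := hfin k; inferInstance
  let pV (k : J) : Γ(P, (V k).1) →ₗ[Γ(X, (V k).1)] Γ(G, (V k).1) :=
    { toFun := p.app (V k).1
      map_add' := fun _ _ => map_add _ _ _
      map_smul' := fun _ _ => Scheme.Modules.Hom.app_smul _ _ _ }
  have hfg : ∀ k, ∃ S : Finset Γ(P, (V k).1), LinearMap.range (pV k) =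
      (Submodule.span Γ(X, (V k).1) (S : Set Γ(P, (V k).1))).map (pV k) := by
    intro k
    obtain ⟨S, hS⟩ := IsNoetherian.noetherian (LinearMap.range (pV k))
    classical
    have hS' : ∀ s ∈ S, ∃ t, pV k t = s := fun s hs =>
      LinearMap.mem_range.1 (hS ▸ Submodule.subset_span hs)
    choose! t ht using hS'
    refine ⟨S.image t, ?_⟩
    rw [Submodule.map_span, ← hS]
    congr 1
    ext s
    simp only [Finset.coe_image, Set.mem_image, Finset.mem_coe, exists_exists_and_eq_and]
    constructor
    · intro hs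
      exact ⟨s, hs, ht s hs⟩
    · rintro ⟨a, ha, rfl⟩
      rw [ht a ha]
      exact ha
  choose S hS using hfg
  obtain ⟨P', i, hi, hP', hsec⟩ := Groth.Agent.Localalg.VanTors.exists_isCoh_sections P hP
    (fun k : Σ k : J, S k => (V k.1).1) (fun k => k.2.1)
  let p' : P' ⟶ G := i ≫ p
  let p'V (k : J) : Γ(P', (V k).1) →ₗ[Γ(X, (V k).1)] Γ(G, (V k).1) :=
    { toFun := p'.app (V k).1
      map_add' := fun _ _ => map_add _ _ _
      map_smul' := fun _ _ => Scheme.Modules.Hom.app_smul _ _ _ }
  have hrange : ∀ k, LinearMap.range (pV k) ≤ LinearMap.range (p'V k) := by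
    intro k
    rw [hS k, Submodule.map_span, Submodule.span_le]
    rintro _ ⟨s, hs, rfl⟩
    obtain ⟨t, ht⟩ := hsec ⟨k, ⟨s, hs⟩⟩
    exact ⟨t, congrArg (p.app (V k).1) ht⟩
  -- `I^m G ⊆ im p'`
  obtain ⟨m, hm⟩ : ∃ m, ClSub.KilledByIdeal (I ^ m) (cokernel p) := by
    refine Groth.Agent.Dual.H367.Kill.exists_pow_killed I j hI
      (isCoh_cokernel p hP hG) ?_
    have h1 : IsZero (cokernel ((restrictFunctor j).map p)) := isZero_cokernel_of_epi _
    exact h1.of_iso (PreservesCokernel.iso (restrictFunctor j) p)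
  have hmem : ∀ k, (I ^ m).ideal (V k) • (⊤ : Submodule Γ(X, (V k).1) Γ(G, (V k).1)) ≤
      LinearMap.range (p'V k) := by
    intro k
    refine le_trans ?_ (hrange k)
    rw [Submodule.smul_le]
    intro a ha g _
    have h1 : (cokernel.π p).app (V k).1 (a • g) = 0 := by
      rw [Scheme.Modules.Hom.app_smul]
      exact hm (V k) a ha _
    obtain ⟨x, hx⟩ := FormalLeft.exists_preimage_of_cokernel p hP hG.1 (V k).2 _ h1
    exact ⟨x, hx⟩
  -- the kernel of `p'` is killed by a power of `I`
  have hK : Coh.IsCoh (kernel p') := isCoh_kernel p' hP' hG.1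
  obtain ⟨r, hr⟩ : ∃ r, ClSub.KilledByIdeal (I ^ r) (kernel p') := by
    refine Groth.Agent.Dual.H367.Kill.exists_pow_killed I j hI hK ?_
    have h0 : Mono ((restrictFunctor j).map i) := inferInstance
    have h1 : Mono ((restrictFunctor j).map p') := by
      have : (restrictFunctor j).map p' = (restrictFunctor j).map i ≫ (restrictFunctor j).map p :=
        (restrictFunctor j).map_comp _ _
      rw [this]
      exact mono_comp _ _
    have h2 : IsZero (kernel ((restrictFunctor j).map p')) := isZero_kernel_of_mono _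
    exact h2.of_iso (PreservesKernel.iso (restrictFunctor j) p')
  -- Artin-Rees
  obtain ⟨c, hc⟩ := artinRees I (kernel.ι p') hK.1 hP'
  let N := c + r
  let v : (Dual3.idealMul (I ^ N)).obj P' ⟶ G := Dual3.idealMulι (I ^ N) P' ≫ p'
  have hv : Mono v := by
    refine Preadditive.mono_of_cancel_zero v fun {T} b hb => ?_
    have h1 : (b ≫ Dual3.idealMulι (I ^ N) P') ≫ p' = 0 := by rw [Category.assoc]; exact hb
    obtain ⟨l, hl⟩ := hc N (Nat.le_add_right c r) T (kernel.lift p' _ h1) b (kernel.lift_ι _ _ _)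
    have h2 : Dual3.idealMulι (I ^ (N - c)) (kernel p') = 0 := by
      apply idealMulι_eq_zero_of_killed
      have : N - c = r := by omega
      rw [this]
      exact hr
    have h3 : kernel.lift p' _ h1 = 0 := by rw [← hl, h2, comp_zero]
    have h4 : b ≫ Dual3.idealMulι (I ^ N) P' = 0 := by
      rw [← kernel.lift_ι p' _ h1, h3, zero_comp]
    rw [← cancel_mono (Dual3.idealMulι (I ^ N) P'), h4, zero_comp]
  -- `I^(N+m) G ⊆ I^N P'`
  have hGm : Coh.IsQCoh ((Dual3.idealMul (I ^ (N + m))).obj G) := isQCoh_obj _ hG.1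
  have hw : Dual3.idealMulι (I ^ (N + m)) G ≫ cokernel.π v = 0 := by
    refine ModPowAff2.eq_zero_of_affine_cover hGm _ fun x => ?_
    obtain ⟨k, hk⟩ := hV x
    refine ⟨(V k).1, hk, (V k).2, fun t => ?_⟩
    have h1 := app_mem (I ^ (N + m)) hG.1 (V k) t
    have h2 : (I ^ (N + m)).ideal (V k) = (I ^ N).ideal (V k) * (I ^ m).ideal (V k) := by
      simp only [Scheme.IdealSheafData.ideal_pow, Pi.pow_apply]
      exact pow_add _ _ _
    rw [h2, Submodule.mul_smul] at h1
    have h3 : (Dual3.idealMulι (I ^ (N + m)) G).app (V k).1 t ∈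
        (I ^ N).ideal (V k) • LinearMap.range (p'V k) := Submodule.smul_mono le_rfl (hmem k) h1
    rw [← Submodule.map_top, ← Submodule.map_smul''] at h3
    obtain ⟨y, hy, hyt⟩ := h3
    obtain ⟨z, rfl⟩ := (mem_iff (I ^ N) hP'.1 (V k) y).2 hy
    have h4 : v.app (V k).1 z = (Dual3.idealMulι (I ^ (N + m)) G).app (V k).1 t := hyt
    change (cokernel.π v).app (V k).1 ((Dual3.idealMulι (I ^ (N + m)) G).app (V k).1 t) = 0
    rw [← h4]
    have := congr((Scheme.Modules.Hom.app $(cokernel.condition v) (V k).1) z)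
    exact this
  let l : (Dual3.idealMul (I ^ (N + m))).obj G ⟶ (Dual3.idealMul (I ^ N)).obj P' :=
    Abelian.monoLift v _ hw
  have hl : l ≫ v = Dual3.idealMulι (I ^ (N + m)) G := Abelian.monoLift_comp v _ hw
  refine ⟨N + m, l ≫ Dual3.idealMulι (I ^ N) P' ≫ i, ?_⟩
  rw [← hl]
  simp only [v, p', Category.assoc]

/-- Deligne: morphisms over `U` come from morphisms on `I^n G`. -/
theorem exists_extend [IsNoetherian X] (I : X.IdealSheafData) {U : Scheme.{u}} (j : U ⟶ X)
    [IsOpenImmersion j] (hI : I.supportSetᶜ = Set.range j) {F G : X.Modules} (hF : Coh.IsQCoh F)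
    (hG : Coh.IsCoh G) (φ : (restrictFunctor j).obj G ⟶ (restrictFunctor j).obj F) :
    ∃ (n : ℕ) (ψ : (Dual3.idealMul (I ^ n)).obj G ⟶ F),
      (restrictFunctor j).map ψ = (restrictFunctor j).map (Dual3.idealMulι (I ^ n) G) ≫ φ := by
  obtain ⟨P, p, q, hP, hp, hq⟩ := exists_roof_qcoh j hG.1 hF φ
  obtain ⟨n, l, hl⟩ := exists_lift_idealMul I j hI hP hG p hp
  refine ⟨n, l ≫ q, ?_⟩
  rw [Functor.map_comp, hq, ← hl, Functor.map_comp, Category.assoc]

end Groth.Agent.Coherent.K47.DeligneHom
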