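import Groth.Agent.CalgA.DepthSmall

/-!
# Depth of `Hom(M, N)`

If `depth N ≥ 1` (resp. `≥ 2`) then `depth Hom(M, N) ≥ 1` (resp. `≥ 2`).
-/

set_option autoImplicit false

universe u v w

open RingTheory.Sequence IsLocalRing

namespace Groth.Agent.Coherent.K47.DepthHom

open Groth.Agent.CalgA.DepthSmall

variable {R : Type u} [CommRing R] [IsLocalRing R]

/-- A weakly regular sequence of length `n` in the maximal ideal gives `n ≤ depth M`, without finiteness. -/
theorem le_depth_of_seq {M : Type v} [AddCommGroup M] [Module R M] (rs : List R)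
    (h : IsWeaklyRegular M rs) (h' : ∀ r ∈ rs, r ∈ maximalIdeal R) :
    (rs.length : ℕ∞) ≤ LocCoh.depth R M := by
  by_cases hM : maximalIdeal R • (⊤ : Submodule R M) = ⊤
  · have : LocCoh.depth R M = ⊤ := by
      unfold LocCoh.depth LocCoh.idealDepth
      rw [if_pos hM]
    rw [this]
    exact le_top
  · exact (le_idealDepth_iff hM _).2 ⟨rs, rfl, h, h'⟩

theorem depth_eq_top_of_subsingleton {M : Type v} [AddCommGroup M] [Module R M] [Subsingleton M] :
    LocCoh.depth R M = ⊤ := by
  unfold LocCoh.depth LocCoh.idealDepth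
  rw [if_pos (Subsingleton.elim _ _)]

variable (M : Type v) (N : Type w) [AddCommGroup M] [Module R M] [AddCommGroup N] [Module R N]
  [Module.Finite R N]

omit [IsLocalRing R] [Module.Finite R N] in
theorem isSMulRegular_hom {x : R} (hx : IsSMulRegular N x) : IsSMulRegular (M →ₗ[R] N) x := by
  intro f g hfg
  ext m
  exact hx (LinearMap.congr_fun hfg m)

theorem one_le_depth_hom (h : 1 ≤ LocCoh.depth R N) : 1 ≤ LocCoh.depth R (M →ₗ[R] N) := by
  rcases subsingleton_or_nontrivial N with hN | hN
  · rw [depth_eq_top_of_subsingleton]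
    exact le_top
  · obtain ⟨x, hx, hxr⟩ := one_le_depth_iff.1 h
    exact le_depth_of_seq [x] ((isWeaklyRegular_singleton_iff _ x).2 (isSMulRegular_hom M N hxr))
      (by simpa using hx)

theorem two_le_depth_hom (h : 2 ≤ LocCoh.depth R N) : 2 ≤ LocCoh.depth R (M →ₗ[R] N) := by
  rcases subsingleton_or_nontrivial N with hN | hN
  · rw [depth_eq_top_of_subsingleton]
    exact le_top
  · obtain ⟨x, hx, y, hy, hxy⟩ := two_le_depth_iff.1 h
    rw [isWeaklyRegular_cons_iff, isWeaklyRegular_singleton_iff] at hxy
    obtain ⟨hxr, hyr⟩ := hxy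
    refine le_depth_of_seq [x, y] ?_ (by
      intro r hr
      rcases List.mem_cons.mp hr with rfl | hr
      · exact hx
      · rw [List.mem_singleton.mp hr]
        exact hy)
    rw [isWeaklyRegular_cons_iff, isWeaklyRegular_singleton_iff]
    refine ⟨isSMulRegular_hom M N hxr, ?_⟩
    rw [isSMulRegular_iff_right_eq_zero_of_smul]
    intro q hq
    obtain ⟨f, rfl⟩ := Submodule.Quotient.mk_surjective _ q
    rw [← Submodule.Quotient.mk_smul, Submodule.Quotient.mk_eq_zero] at hq
    obtain ⟨g, -, hg⟩ := hq
    have hg' : ∀ m : M, x • g m = y • f m := fun m => LinearMap.congr_fun hg m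
    have key : ∀ m : M, ∃ n : N, x • n = f m := by
      intro m
      have h1 : y • (Submodule.Quotient.mk (f m) : QuotSMulTop x N) = 0 := by
        rw [← Submodule.Quotient.mk_smul, Submodule.Quotient.mk_eq_zero, ← hg' m]
        exact Submodule.smul_mem_pointwise_smul _ _ _ trivial
      have h2 : (Submodule.Quotient.mk (f m) : QuotSMulTop x N) = 0 := by
        rw [isSMulRegular_iff_right_eq_zero_of_smul] at hyr
        exact hyr _ h1
      rw [Submodule.Quotient.mk_eq_zero] at h2
      obtain ⟨n, -, hn⟩ := h2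
      exact ⟨n, hn⟩
    choose e he using key
    let f' : M →ₗ[R] N :=
      { toFun := e
        map_add' := fun a b => hxr (by
          change x • e (a + b) = x • (e a + e b)
          rw [he, smul_add, he, he, map_add])
        map_smul' := fun r a => hxr (by
          change x • e (r • a) = x • (r • e a)
          rw [he, smul_comm x r, he, map_smul]) }
    rw [Submodule.Quotient.mk_eq_zero]
    have h3 : f = x • f' := by
      ext m
      exact (he m).symm
    rw [h3]
    exact Submodule.smul_mem_pointwise_smul _ _ _ trivial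

theorem supportDim_hom_le {R : Type u} [CommRing R] (M : Type v) (N : Type w) [AddCommGroup M]
    [Module R M] [AddCommGroup N] [Module R N] [Module.Finite R N] :
    Module.supportDim R (M →ₗ[R] N) ≤ Module.supportDim R N := by
  have h : Module.support R (M →ₗ[R] N) ⊆ Module.support R N := by
    intro p hp
    rw [Module.mem_support_iff_of_finite]
    refine le_trans ?_ (Module.annihilator_le_of_mem_support hp)
    intro r hr
    rw [Module.mem_annihilator] at hr ⊢
    intro f
    ext m
    exact hr (f m)
  exact Order.krullDim_le_of_strictMono (Set.inclusion h) fun _ _ h => h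

/-- `min(k, dim Supp) ≤ depth` is inherited by `Hom(M, N)` for `k = 1, 2`. -/
theorem min_supportDim_le_depth_hom (k : ℕ) (hk : k = 1 ∨ k = 2)
    (h : min (k : WithBot ℕ∞) (Module.supportDim R N) ≤
      ((LocCoh.depth R N : ℕ∞) : WithBot ℕ∞)) :
    min (k : WithBot ℕ∞) (Module.supportDim R (M →ₗ[R] N)) ≤
      ((LocCoh.depth R (M →ₗ[R] N) : ℕ∞) : WithBot ℕ∞) := by
  have hs := supportDim_hom_le (R := R) M N
  have key : ∀ n : ℕ, n = 1 ∨ n = 2 → (n : WithBot ℕ∞) ≤ k →
      (n : WithBot ℕ∞) ≤ Module.supportDim R (M →ₗ[R] N) → (n : ℕ∞) ≤ LocCoh.depth R (M →ₗ[R] N) := by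
    intro n hn h1 h2
    have h3 : ((n : ℕ∞) : WithBot ℕ∞) ≤ ((LocCoh.depth R N : ℕ∞) : WithBot ℕ∞) :=
      le_trans (le_min h1 (h2.trans hs)) h
    have h4 : (n : ℕ∞) ≤ LocCoh.depth R N := WithBot.coe_le_coe.1 h3
    rcases hn with rfl | rfl
    · exact one_le_depth_hom M N (by simpa using h4)
    · exact two_le_depth_hom M N (by simpa using h4)
  induction hd : Module.supportDim R (M →ₗ[R] N) with
  | bot => simp
  | coe t =>
    rw [hd] at key
    rcases hk with rfl | rfl
    · by_cases h1 : (1 : ℕ∞) ≤ t
      · exact (min_le_left _ _).trans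
          (WithBot.coe_le_coe.2 (key 1 (Or.inl rfl) le_rfl (WithBot.coe_le_coe.2 h1)))
      · refine (min_le_right _ _).trans (WithBot.coe_le_coe.2 ?_)
        rw [not_le, Order.lt_one_iff] at h1
        rw [h1]
        exact zero_le
    · by_cases h2 : (2 : ℕ∞) ≤ t
      · exact (min_le_left _ _).trans
          (WithBot.coe_le_coe.2 (key 2 (Or.inr rfl) le_rfl (WithBot.coe_le_coe.2 h2)))
      · by_cases h1 : (1 : ℕ∞) ≤ t
        · have h3 : t = 1 := by
            refine le_antisymm ?_ h1
            rw [not_le] at h2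
            exact ENat.lt_add_one_iff (by simp) |>.1 (by simpa [one_add_one_eq_two] using h2)
          refine (min_le_right _ _).trans (WithBot.coe_le_coe.2 ?_)
          rw [h3]
          exact key 1 (Or.inl rfl) (by exact_mod_cast one_le_two) (by rw [h3]; rfl)
        · refine (min_le_right _ _).trans (WithBot.coe_le_coe.2 ?_)
          rw [not_le, Order.lt_one_iff] at h1
          rw [h1]
          exact zero_le

end Groth.Agent.Coherent.K47.DepthHom
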