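import Groth.Agent.Coherent.K47.DevMono
import Groth.Agent.CohqB.DevSimple
import Groth.Agent.CohqA.DevInd
import Groth.Agent.Ega3B.Devissage

/-!
# Small modifications of coherent modules

* `isIso_restrict_sigmaMap`, `mono_sigmaMap`: finite powers of a morphism;
* `isIso_stalk_ideal`: a nonzero ideal of an integral scheme is everything at the generic point;
* `exists_absorb`: from `a : A ⟶ G`, `c : C ⟶ B` isomorphisms on `U` and `b : A ⟶ B`: for a suitable ideal `J` with
  `V(J)` disjoint from `U`, `J · G ⟶ G` lifts to `A` and `J · G ⟶ A ⟶ B` lifts to `C`.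
-/

set_option autoImplicit false
universe u

open CategoryTheory CategoryTheory.Limits AlgebraicGeometry Opposite TopologicalSpace
open AlgebraicGeometry.Scheme.Modules
open Groth.Agent.Sga67.CohBasic
open Groth.Agent.CohqB.DevSupport Groth.Agent.CohqB.DevSplit

namespace Groth.Agent.Coherent.K47.DevAbs

open Groth.Agent.FormalB Groth.Agent.Dual.H371.IdealMul Groth.Agent.Coherent.K47.TorSub
open Groth.Agent.Coherent.K47.GenFree Groth.Agent.Coherent.K47.DevMono
open Groth.Agent.Coherent.K47.DeligneHom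

variable {X Z : Scheme.{u}}

/-! ### Finite powers of a morphism -/

theorem sigmaMap_proj {n : ℕ} {A B : X.Modules} (f : A ⟶ B) (k : Fin n) :
    Limits.Sigma.map (fun _ : Fin n => f) ≫ proj B k = proj A k ≫ f := by
  refine Sigma.hom_ext _ _ fun j => ?_
  rw [← Category.assoc, Sigma.ι_map, Category.assoc, proj, proj, Sigma.ι_desc, ← Category.assoc,
    Sigma.ι_desc]
  by_cases h : j = k
  · rw [if_pos h, if_pos h, Category.comp_id, Category.id_comp]
  · rw [if_neg h, if_neg h, comp_zero, zero_comp]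

theorem mono_sigmaMap {n : ℕ} {A B : X.Modules} (f : A ⟶ B) [Mono f] :
    Mono (Limits.Sigma.map (fun _ : Fin n => f)) := by
  refine Preadditive.mono_of_cancel_zero _ fun {T} b hb => ?_
  have h1 : ∀ k, b ≫ proj A k = 0 := fun k => by
    rw [← cancel_mono f, Category.assoc, ← sigmaMap_proj, ← Category.assoc, hb, zero_comp, zero_comp]
  rw [← Category.comp_id b, ← sum_proj, Preadditive.comp_sum]
  refine Finset.sum_eq_zero fun k _ => ?_
  rw [← Category.assoc, h1, zero_comp]

/-- An additive functor inverting `f` inverts the finite powers of `f`. -/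
theorem isIso_map_sigmaMap {n : ℕ} {A B : X.Modules} (f : A ⟶ B) {D : Type*} [Category D] [Preadditive D]
    (F : X.Modules ⥤ D) [F.Additive] [IsIso (F.map f)] :
    IsIso (F.map (Limits.Sigma.map (fun _ : Fin n => f))) := by
  refine ⟨∑ k : Fin n, F.map (proj B k) ≫ inv (F.map f) ≫ F.map (Sigma.ι (fun _ : Fin n => A) k), ?_, ?_⟩
  · rw [Preadditive.comp_sum, ← F.map_id, ← sum_proj, F.map_sum]
    refine Finset.sum_congr rfl fun k _ => ?_
    rw [← Category.assoc, ← F.map_comp, sigmaMap_proj, F.map_comp, Category.assoc,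
      IsIso.hom_inv_id_assoc, F.map_comp]
  · rw [Preadditive.sum_comp, ← F.map_id, ← sum_proj, F.map_sum]
    refine Finset.sum_congr rfl fun k _ => ?_
    rw [Category.assoc, Category.assoc, ← F.map_comp, Sigma.ι_map, F.map_comp, IsIso.inv_hom_id_assoc,
      F.map_comp]

/-! ### Ideals of integral schemes -/

theorem exists_ne_zero_section {M : Z.Modules} (hne : ¬ IsZero M) : ∃ (V : Z.Opens) (t : Γ(M, V)), t ≠ 0 := by
  by_contra h
  push Not at h
  apply hne
  rw [IsZero.iff_id_eq_zero]
  refine Scheme.Modules.hom_ext _ _ fun V => ?_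
  ext t
  rw [h V t, map_zero, map_zero]

theorem germ_structure_ne_zero [IsIntegral Z] (V : Z.Opens) (hη : genericPoint Z ∈ V)
    (s : Γ(Coh.structureModule Z, V)) (hs : s ≠ 0) :
    (Coh.structureModule Z).presheaf.germ V (genericPoint Z) hη s ≠ 0 := by
  intro h
  apply hs
  have h4 : (Coh.structureModule Z).presheaf.germ V (genericPoint Z) hη s =
      (Coh.structureModule Z).presheaf.germ V (genericPoint Z) hη 0 := by
    rw [h, map_zero]
  obtain ⟨W', hxW', i₁, i₂, h5⟩ := (Coh.structureModule Z).presheaf.germ_eq _ hη hη _ _ h4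
  refine eq_zero_structure W' V ⟨_, hxW'⟩ s ?_
  have h6 : (Coh.structureModule Z).presheaf.map (homOfLE i₁.le).op s = 0 := by
    rw [show (homOfLE i₁.le) = i₁ from rfl, h5, map_zero]
  have h7 : (homOfLE (inf_le_left : V ⊓ W' ≤ V)).op = (homOfLE i₁.le).op ≫
      (homOfLE (inf_le_right : V ⊓ W' ≤ W')).op := rfl
  rw [h7, Functor.map_comp, AddCommGrpCat.comp_apply, h6, map_zero]

theorem isIso_stalk_ideal [IsIntegral Z] {I : Z.Modules}
    (ι : I ⟶ Coh.structureModule Z) [Mono ι] (hne : ¬ IsZero I) :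
    IsIso ((stalkF Z (genericPoint Z)).map ι) := by
  obtain ⟨V, t, ht⟩ := exists_ne_zero_section hne
  have hV : genericPoint Z ∈ V := by
    refine ((genericPoint_spec Z).mem_open_set_iff V.2).2 ?_
    rw [Set.univ_inter, Set.nonempty_iff_ne_empty]
    intro he
    have : V = ⊥ := Opens.ext he
    subst this
    have : Subsingleton Γ(I, (⊥ : Z.Opens)) :=
      subsingleton_sections_of_support _ _ (fun x hx => absurd hx (by simp))
    exact ht (Subsingleton.elim _ _)
  have hs : ι.app V t ≠ 0 := fun h => ht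
    (Groth.Agent.Sga67.IdealTorsion.app_injective_of_mono ι V (h.trans (map_zero _).symm))
  have hg := germ_structure_ne_zero V hV _ hs
  have hgen : Groth.Agent.Fdesc.LocGen.IsGen (Groth.Agent.Fdesc.LocGen.sec (𝟙 (Coh.structureModule Z)) ⊤) :=
    (Groth.Agent.Fdesc.LocGen.isIso_iff_isGen (𝟙 (Coh.structureModule Z))).1 inferInstance
  have hbij := Groth.Agent.CohqB.DevSimple.germ_bijective_of_isGen hgen (genericPoint Z) trivial
  have hfield : IsField (Z.presheaf.stalk (genericPoint Z)) :=
    (inferInstance : Field Z.functionField).toIsField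
  have hmono : Mono ((stalkF Z (genericPoint Z)).map ι) := inferInstance
  have hepi : Epi ((stalkF Z (genericPoint Z)).map ι) := by
    refine (AddCommGrpCat.epi_iff_surjective _).2 fun z => ?_
    obtain ⟨r, hr⟩ := hbij.2 ((Coh.structureModule Z).presheaf.germ V (genericPoint Z) hV (ι.app V t))
    obtain ⟨s, rfl⟩ := hbij.2 z
    have hr0 : r ≠ 0 := by
      rintro rfl
      exact hg (hr.symm.trans (zero_smul _ _))
    obtain ⟨r', hr'⟩ := hfield.mul_inv_cancel hr0
    refine ⟨(s * r') • I.presheaf.germ V (genericPoint Z) hV t, ?_⟩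
    have h1 := Groth.Agent.CycB.StalkExact.stalkLin_germ ι (genericPoint Z) hV t
    have h2 : Groth.Agent.CycB.StalkExact.stalkLin ι (genericPoint Z)
        ((s * r') • I.presheaf.germ V (genericPoint Z) hV t) =
        (s * r') • (Coh.structureModule Z).presheaf.germ V (genericPoint Z) hV (ι.app V t) := by
      rw [LinearMap.map_smul, h1]
    refine Eq.trans ?_ (h2.trans ?_)
    · rfl
    · rw [← hr]
      change (s * r') • r • _ = s • _
      rw [smul_smul, mul_assoc, mul_comm r' r, hr', mul_one]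
  exact isIso_of_mono_of_epi _

/-! ### Absorption -/

theorem isQCoh_pullback [IsNoetherian X] {A B C : X.Modules} (b : A ⟶ B) (c : C ⟶ B)
    (hA : Coh.IsQCoh A) (hB : Coh.IsQCoh B) (hC : Coh.IsQCoh C) : Coh.IsQCoh (Limits.pullback b c) := by
  have hk : Coh.IsQCoh (kernel (biprod.desc b (-c))) := by
    have h1 : Coh.IsQCoh (A ⊞ C) := isQCoh_biprod hA hC
    exact Groth.Agent.PerfA.QCohSerre.isQCoh_kernel _ h1 hB
  refine isQCoh_of_iso ?_ hk
  exact (kernelIsKernel (biprod.desc b (-c))).conePointUniqueUpToIso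
    (Abelian.PullbackToBiproductIsKernel.isLimitPullbackToBiproduct b c)

theorem exists_ideal_compl (U : X.Opens) : ∃ I : X.IdealSheafData, (I.support : Set X)ᶜ = U := by
  let C : Closeds X := ⟨(U : Set X)ᶜ, U.2.isClosed_compl⟩
  refine ⟨Scheme.IdealSheafData.vanishingIdeal C, ?_⟩
  rw [Scheme.IdealSheafData.coe_support_vanishingIdeal C]
  exact compl_compl _

theorem disjoint_support_pow (I : X.IdealSheafData) (U : X.Opens) (hI : (I.support : Set X)ᶜ = U) (n : ℕ) :
    Disjoint ((I ^ n).support : Set X) (U : Set X) := by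
  rcases Nat.eq_zero_or_pos n with rfl | hn
  · have h0 : ((I ^ 0).support : Set X) = ∅ := by
      rw [pow_zero, Scheme.IdealSheafData.one_eq_top, Scheme.IdealSheafData.support_top]
      rfl
    rw [h0]
    exact Set.empty_disjoint _
  · rw [Scheme.IdealSheafData.support_pow I n hn.ne', ← hI]
    exact disjoint_compl_right

/-- Absorption. -/
theorem exists_absorb [IsNoetherian X] {A B C G : X.Modules} (hA : Coh.IsQCoh A) (hB : Coh.IsQCoh B)
    (hC : Coh.IsQCoh C) (hG : Coh.IsCoh G) (a : A ⟶ G) (b : A ⟶ B) (c : C ⟶ B) (U : X.Opens)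
    (ha : IsIso ((restrictFunctor U.ι).map a)) (hc : IsIso ((restrictFunctor U.ι).map c)) :
    ∃ (J : X.IdealSheafData) (l : (Dual3.idealMul J).obj G ⟶ A) (m : (Dual3.idealMul J).obj G ⟶ C),
      Disjoint (J.support : Set X) (U : Set X) ∧ l ≫ a = Dual3.idealMulι J G ∧ l ≫ b = m ≫ c := by
  obtain ⟨I, hI⟩ := exists_ideal_compl U
  have hP := isQCoh_pullback b c hA hB hC
  have hsq : IsPullback ((restrictFunctor U.ι).map (Limits.pullback.fst b c))
      ((restrictFunctor U.ι).map (Limits.pullback.snd b c)) ((restrictFunctor U.ι).map b)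
      ((restrictFunctor U.ι).map c) := (IsPullback.of_hasPullback b c).map (restrictFunctor U.ι)
  have hp : IsIso ((restrictFunctor U.ι).map (Limits.pullback.fst b c)) := hsq.isIso_fst_of_isIso
  have hp' : IsIso ((restrictFunctor U.ι).map (Limits.pullback.fst b c ≫ a)) := by
    rw [Functor.map_comp]; infer_instance
  obtain ⟨n, l, hl⟩ := exists_lift_idealMul I U.ι (by
    rw [Scheme.Opens.range_ι]; exact hI) hP hG (Limits.pullback.fst b c ≫ a) hp'
  refine ⟨I ^ n, l ≫ Limits.pullback.fst b c, l ≫ Limits.pullback.snd b c, disjoint_support_pow I U hI n, ?_, ?_⟩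
  · rw [Category.assoc, hl]
  · rw [Category.assoc, Category.assoc, Limits.pullback.condition]

end Groth.Agent.Coherent.K47.DevAbs
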