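import Groth.Agent.Coherent.K47.GenFree
import Groth.Agent.S0786
import Groth.Agent.S0019
import Groth.Agent.Fdesc.StructMod
import Groth.Agent.CycB.CohProp

/-!
# Coherent modules contain push-forwards of powers of ideals of integral closed subschemes

`exists_mono_push`: the dévissage input: `F` coherent, `F_ξ` killed by `m_ξ`, `ξ` the generic point of an integral
closed subscheme `i : Z ⟶ X`: there is a monomorphism `i_* (I^r) ⟶ F` which is an isomorphism near `ξ`.
-/

set_option autoImplicit false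
universe u

open CategoryTheory CategoryTheory.Limits AlgebraicGeometry Opposite TopologicalSpace
open AlgebraicGeometry.Scheme.Modules
open Groth.Agent.Sga67.CohBasic
open Groth.Agent.CohqB.DevSupport Groth.Agent.CohqB.DevSplit

namespace Groth.Agent.Coherent.K47.DevMono

open Groth.Agent.FormalB Groth.Agent.Dual.H371.IdealMul Groth.Agent.Coherent.K47.TorSub
open Groth.Agent.Coherent.K47.GenFree

variable {X Z : Scheme.{u}}

theorem isIso_app_of_restrict (U : X.Opens) {M N : X.Modules} (φ : M ⟶ N)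
    (h : IsIso ((restrictFunctor U.ι).map φ)) (W : X.Opens) (hW : W ≤ U) : IsIso (φ.app W) := by
  have e : U.ι ''ᵁ (U.ι ⁻¹ᵁ W) = W := by
    rw [image_preimage_eq_inf, inf_eq_right]
    exact hW
  have h1 : IsIso (((restrictFunctor U.ι).map φ).app (U.ι ⁻¹ᵁ W)) :=
    Scheme.Modules.Hom.isIso_iff_isIso_app.1 h _
  have h2 : ∀ W' : X.Opens, W' = U.ι ''ᵁ (U.ι ⁻¹ᵁ W) → IsIso (φ.app W') := by
    rintro _ rfl
    exact h1
  exact h2 W e.symm

theorem exists_open_preimage (i : Z ⟶ X) [IsClosedImmersion i] (U : Z.Opens) :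
    ∃ V : X.Opens, i ⁻¹ᵁ V = U := by
  obtain ⟨V, hV, hVU⟩ := (i.isClosedEmbedding.isInducing.isOpen_iff).1 U.2
  exact ⟨⟨V, hV⟩, Opens.ext hVU⟩

theorem isIso_restrict_push (i : Z ⟶ X) {G H : Z.Modules} (ψ : G ⟶ H) (V : X.Opens)
    (hψ : IsIso ((restrictFunctor (i ⁻¹ᵁ V).ι).map ψ)) :
    IsIso ((restrictFunctor V.ι).map ((pushforward i).map ψ)) := by
  refine isIso_restrict_of_app V _ fun W hW => ?_
  exact isIso_app_of_restrict (i ⁻¹ᵁ V) ψ hψ (i ⁻¹ᵁ W) ((Opens.map _).map hW.hom).le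

theorem isIso_stalk_push (i : Z ⟶ X) [IsClosedImmersion i] {G H : Z.Modules} (ψ : G ⟶ H) (U : Z.Opens)
    (z : Z) (hz : z ∈ U) (hψ : IsIso ((restrictFunctor U.ι).map ψ)) :
    IsIso ((stalkF X (i z)).map ((pushforward i).map ψ)) := by
  obtain ⟨V, rfl⟩ := exists_open_preimage i U
  have := isIso_restrict_push i ψ V hψ
  exact isIso_stalk_of_isIso_restrict V _ (i z) hz

theorem isNoetherian_of_closed [IsNoetherian X] (i : Z ⟶ X) [IsClosedImmersion i] : IsNoetherian Z := by
  have : CompactSpace Z := QuasiCompact.compactSpace_of_compactSpace i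
  have : IsLocallyNoetherian Z := LocallyOfFiniteType.isLocallyNoetherian i
  constructor

theorem exists_mono_push [IsNoetherian X] (i : Z ⟶ X) [IsClosedImmersion i] [IsIntegral Z] (F : X.Modules)
    (hF : Coh.IsCoh F)
    (hann : ∀ a ∈ IsLocalRing.maximalIdeal (X.presheaf.stalk (i (genericPoint Z))),
      ∀ m : ↑(F.presheaf.stalk (i (genericPoint Z))), a • m = 0) :
    ∃ (r : ℕ) (I : Z.Modules) (ι : I ⟶ Coh.structureModule Z)
      (φ : (Coh.push i).obj (∐ fun _ : Fin r => I) ⟶ F),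
      Mono ι ∧ Coh.IsCoh I ∧ Mono φ ∧
      ∃ U : X.Opens, i (genericPoint Z) ∈ U ∧ IsIso ((Scheme.Modules.restrictFunctor U.ι).map φ) := by
  have hZN : IsNoetherian Z := isNoetherian_of_closed i
  obtain ⟨T, t, ht, hT, hTk, hTs⟩ := exists_tor_coh i.ker F hF
  have hξ : i (genericPoint Z) ∈ i.ker.support := i.range_subset_ker_support ⟨_, rfl⟩
  have hst := isIso_stalk_tor i.ker t hTs hξ hann
  obtain ⟨G, hG, ⟨e⟩⟩ := Groth.Agent.S0786.result i T hT hTk
  obtain ⟨r, J, U, ψ, hU, hJU, hψm, hψ⟩ := exists_mono_ideal_pow G hG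
  let I : Z.Modules := (Dual3.idealMul J).obj (Coh.structureModule Z)
  have hO : Coh.IsCoh (Coh.structureModule Z) := Groth.Agent.Fdesc.StructMod.isCoh_structureModule Z
  have hI : Coh.IsCoh I := isCoh_obj J hO
  let e' : (Dual3.idealMul J).obj (FlatMod.freeMod Z r) ≅ ∐ fun _ : Fin r => I :=
    PreservesCoproduct.iso (Dual3.idealMul J) (fun _ : Fin r => Coh.structureModule Z)
  let φ : (Coh.push i).obj (∐ fun _ : Fin r => I) ⟶ F := (pushforward i).map (e'.inv ≫ ψ) ≫ e.hom ≫ t
  have hm : Mono φ := by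
    have h1 : Mono (e'.inv ≫ ψ) := mono_comp _ _
    have h2 : Mono ((pushforward i).map (e'.inv ≫ ψ)) := inferInstance
    exact mono_comp _ _
  have hgen : genericPoint Z ∈ U := by
    exact ((genericPoint_spec Z).mem_open_set_iff U.2).2 (by simpa using hU)
  have hφ : IsIso ((stalkF X (i (genericPoint Z))).map φ) := by
    have h1 : IsIso ((restrictFunctor U.ι).map (e'.inv ≫ ψ)) := by
      rw [Functor.map_comp]; infer_instance
    have h2 := isIso_stalk_push i (e'.inv ≫ ψ) U (genericPoint Z) hgen h1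
    have h3 : (stalkF X (i (genericPoint Z))).map φ =
        (stalkF X (i (genericPoint Z))).map ((pushforward i).map (e'.inv ≫ ψ)) ≫
          (stalkF X (i (genericPoint Z))).map e.hom ≫ (stalkF X (i (genericPoint Z))).map t := by
      rw [← Functor.map_comp, ← Functor.map_comp]
    rw [h3]
    infer_instance
  have hcoh : Coh.IsCoh ((Coh.push i).obj (∐ fun _ : Fin r => I)) :=
    Groth.Agent.S0019.result i _ (Groth.Agent.CycB.CohProp.isCoh_finite_coproduct _ fun _ => hI)
  obtain ⟨V, hV, hVi⟩ := StalkLocal.exists_isIso hF hcoh φ (i (genericPoint Z)) hφ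
  exact ⟨r, I, Dual3.idealMulι J _, φ, inferInstance, hI, hm, V, hV, hVi⟩

end Groth.Agent.Coherent.K47.DevMono
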