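import Groth.Agent.Coherent.K47.DevAbs

/-!
# Dévissage with extensions and summands
-/

set_option autoImplicit false
universe u

open CategoryTheory CategoryTheory.Limits AlgebraicGeometry Opposite TopologicalSpace
open AlgebraicGeometry.Scheme.Modules
open Groth.Agent.Sga67.CohBasic
open Groth.Agent.CohqB.DevSupport Groth.Agent.CohqB.DevSplit

namespace Groth.Agent.Coherent.K47.DevTwo

open Groth.Agent.FormalB Groth.Agent.Dual.H371.IdealMul Groth.Agent.Coherent.K47.TorSub
open Groth.Agent.Coherent.K47.GenFree Groth.Agent.Coherent.K47.DevMono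
open Groth.Agent.Coherent.K47.DeligneHom Groth.Agent.Coherent.K47.DevAbs
open Groth.Agent.Ega3B.Devissage (isClosed_support isZero_of_support_eq_empty)

variable {X Z : Scheme.{u}}

theorem isCoh_structure (X : Scheme.{u}) : Coh.IsCoh (Coh.structureModule X) :=
  Groth.Agent.Fdesc.StructMod.isCoh_structureModule X

theorem isCoh_push [IsLocallyNoetherian X] (i : Z ⟶ X) [IsFinite i] {G : Z.Modules} (hG : Coh.IsCoh G) :
    Coh.IsCoh ((Coh.push i).obj G) := Groth.Agent.S0019.result i G hG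

theorem support_iso {M N : X.Modules} (e : M ≅ N) : CohB1.support M = CohB1.support N :=
  (support_subset_of_mono e.hom).antisymm (support_subset_of_mono e.inv)

theorem shortExact_of_mono {A B : X.Modules} (f : A ⟶ B) [Mono f] :
    (ShortComplex.mk f (cokernel.π f) (cokernel.condition f)).ShortExact where
  exact := ShortComplex.exact_of_g_is_cokernel _ (cokernelIsCokernel f)
  mono_f := by dsimp; infer_instance
  epi_g := by dsimp; infer_instance

/-- Support of the cokernel of a monomorphism which is an isomorphism at `x`. -/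
theorem cokernel_small [IsLocallyNoetherian X] {A B : X.Modules} (f : A ⟶ B) (hA : Coh.IsCoh A)
    (hB : Coh.IsCoh B) (x : X) (hf : IsIso ((stalkF X x).map f)) :
    Coh.IsCoh (cokernel f) ∧ x ∉ CohB1.support (cokernel f) ∧
      CohB1.support (cokernel f) ⊆ CohB1.support B :=
  ⟨CycB.CohProp.isCoh_cokernel f hA hB, not_mem_support_cokernel f x inferInstance,
    support_subset_of_epi (cokernel.π f)⟩

theorem mem_support_of_isIso_stalk {A B : X.Modules} (f : A ⟶ B) (x : X) (hf : IsIso ((stalkF X x).map f)) :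
    x ∈ CohB1.support A ↔ x ∈ CohB1.support B := by
  rw [← not_iff_not, not_mem_support_iff_isZero, not_mem_support_iff_isZero]
  exact ⟨fun h => h.of_iso (asIso ((stalkF X x).map f)).symm, fun h => h.of_iso (asIso ((stalkF X x).map f))⟩

theorem genericPoint_mem_support_structure (Z : Scheme.{u}) [IsIntegral Z] :
    genericPoint Z ∈ CohB1.support (Coh.structureModule Z) := by
  have hgen : Groth.Agent.Fdesc.LocGen.IsGen (Groth.Agent.Fdesc.LocGen.sec (𝟙 (Coh.structureModule Z)) ⊤) :=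
    (Groth.Agent.Fdesc.LocGen.isIso_iff_isGen (𝟙 (Coh.structureModule Z))).1 inferInstance
  have hbij := Groth.Agent.CohqB.DevSimple.germ_bijective_of_isGen hgen (genericPoint Z) trivial
  have h1 : Nontrivial ((Coh.structureModule Z).presheaf.stalk (genericPoint Z)) :=
    (Equiv.ofBijective _ hbij).symm.nontrivial
  exact not_subsingleton_iff_nontrivial.2 h1

/-- The support of the push-forward of a nonzero ideal of an integral closed subscheme. -/
theorem support_push_ideal [IsNoetherian X] (i : Z ⟶ X) [IsClosedImmersion i] [IsIntegral Z] {I : Z.Modules}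
    (ι : I ⟶ Coh.structureModule Z) [Mono ι] (hI : Coh.IsQCoh I) (hne : ¬ IsZero I) :
    CohB1.support ((Coh.push i).obj I) = Set.range i := by
  have hZN : IsNoetherian Z := isNoetherian_of_closed i
  have hIc : Coh.IsCoh I := CycB.CohProp.isCoh_of_mono ι hI (isCoh_structure Z)
  have h1 : genericPoint Z ∈ CohB1.support I :=
    (mem_support_of_isIso_stalk ι _ (isIso_stalk_ideal ι hne)).2 (genericPoint_mem_support_structure Z)
  have h2 := Groth.Agent.CohqB.DevSimple.support_push i I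
  refine (Groth.Agent.CohqB.DevSimple.support_push_subset_range i I).antisymm ?_
  rw [← Groth.Agent.CohqB.DevGeom.closure_image_genericPoint i]
  refine closure_minimal (Set.singleton_subset_iff.2 ?_) (isClosed_support (isCoh_push i hIc))
  rw [h2]
  exact ⟨_, h1, rfl⟩

/-- The main comparison: `i : Z ⟶ X` an integral closed subscheme, `G` coherent on `X` with `G_ξ` killed by `m_ξ`,
`I` a nonzero ideal of `Z`. For suitable `r` and `J` with `ξ ∉ V(J)`, there is a monomorphism
`J · G ⟶ i_* (I^r)` which is an isomorphism at `ξ`. -/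
theorem exists_mono_to_push [IsNoetherian X] (i : Z ⟶ X) [IsClosedImmersion i] [IsIntegral Z]
    (G : X.Modules) (hG : Coh.IsCoh G)
    (hann : ∀ a ∈ IsLocalRing.maximalIdeal (X.presheaf.stalk (i (genericPoint Z))),
      ∀ m : ↑(G.presheaf.stalk (i (genericPoint Z))), a • m = 0)
    (hGne : i (genericPoint Z) ∈ CohB1.support G)
    {I : Z.Modules} (ι : I ⟶ Coh.structureModule Z) [Mono ι] (hI : Coh.IsQCoh I) (hne : ¬ IsZero I) :
    ∃ (r : ℕ) (J : X.IdealSheafData)
      (m : (Dual3.idealMul J).obj G ⟶ (Coh.push i).obj (∐ fun _ : Fin r => I)),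
      1 ≤ r ∧ i (genericPoint Z) ∉ J.support ∧ Mono m ∧
      IsIso ((stalkF X (i (genericPoint Z))).map m) := by
  have hZN : IsNoetherian Z := isNoetherian_of_closed i
  have hIc : Coh.IsCoh I := CycB.CohProp.isCoh_of_mono ι hI (isCoh_structure Z)
  obtain ⟨r, I₁, ι₁, φ, hι₁, hI₁, hφm, U, hU, hφ⟩ := exists_mono_push i G hG hann
  have hφs := isIso_stalk_of_isIso_restrict U φ _ hU
  -- `I₁ ≠ 0` and `r ≥ 1`
  have hsupp : i (genericPoint Z) ∈ CohB1.support ((Coh.push i).obj (∐ fun _ : Fin r => I₁)) :=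
    (mem_support_of_isIso_stalk φ _ hφs).2 hGne
  have hcop : ¬ IsZero (∐ fun _ : Fin r => I₁) := by
    intro h
    have h1 : IsZero ((stalkF X (i (genericPoint Z))).obj ((Coh.push i).obj (∐ fun _ : Fin r => I₁))) :=
      (stalkF X _).map_isZero ((Coh.push i).map_isZero h)
    exact (not_mem_support_iff_isZero _ _).2 h1 hsupp
  have hr : 1 ≤ r := by
    rcases Nat.eq_zero_or_pos r with rfl | h
    · exfalso
      apply hcop
      rw [IsZero.iff_id_eq_zero]
      exact Sigma.hom_ext _ _ fun j => j.elim0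
    · exact h
  have hne₁ : ¬ IsZero I₁ := by
    intro h
    apply hcop
    rw [IsZero.iff_id_eq_zero]
    exact Sigma.hom_ext _ _ fun j => h.eq_of_src _ _
  -- the two inclusions into `i_* O_Z^r`
  have hs₁ := isIso_stalk_ideal ι₁ hne₁
  have hs := isIso_stalk_ideal ι hne
  obtain ⟨W₁, hW₁, hW₁i⟩ := StalkLocal.exists_isIso (isCoh_structure Z) hI₁ ι₁ (genericPoint Z) hs₁
  obtain ⟨W, hW, hWi⟩ := StalkLocal.exists_isIso (isCoh_structure Z) hIc ι (genericPoint Z) hs
  let b₀ : (∐ fun _ : Fin r => I₁) ⟶ ∐ fun _ : Fin r => Coh.structureModule Z :=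
    Limits.Sigma.map (fun _ : Fin r => ι₁)
  let c₀ : (∐ fun _ : Fin r => I) ⟶ ∐ fun _ : Fin r => Coh.structureModule Z :=
    Limits.Sigma.map (fun _ : Fin r => ι)
  have hb₀ : IsIso ((restrictFunctor W₁.ι).map b₀) := isIso_map_sigmaMap ι₁ (restrictFunctor W₁.ι)
  have hc₀ : IsIso ((restrictFunctor W.ι).map c₀) := isIso_map_sigmaMap ι (restrictFunctor W.ι)
  have hb₀m : Mono b₀ := mono_sigmaMap ι₁
  have hc₀m : Mono c₀ := mono_sigmaMap ι
  let b := (pushforward i).map b₀
  let c := (pushforward i).map c₀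
  have hbm : Mono b := inferInstance
  have hcm : Mono c := inferInstance
  have hbs : IsIso ((stalkF X (i (genericPoint Z))).map b) := isIso_stalk_push i b₀ W₁ _ hW₁ hb₀
  have hcs : IsIso ((stalkF X (i (genericPoint Z))).map c) := isIso_stalk_push i c₀ W _ hW hc₀
  have hA : Coh.IsCoh ((pushforward i).obj (∐ fun _ : Fin r => I₁)) :=
    isCoh_push i (CycB.CohProp.isCoh_finite_coproduct _ fun _ => hI₁)
  have hB : Coh.IsCoh ((pushforward i).obj (∐ fun _ : Fin r => Coh.structureModule Z)) :=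
    isCoh_push i (CycB.CohProp.isCoh_finite_coproduct _ fun _ => isCoh_structure Z)
  have hC : Coh.IsCoh ((pushforward i).obj (∐ fun _ : Fin r => I)) :=
    isCoh_push i (CycB.CohProp.isCoh_finite_coproduct _ fun _ => hIc)
  obtain ⟨V, hV, hVc⟩ := StalkLocal.exists_isIso hB hC c _ hcs
  have hφV : IsIso ((restrictFunctor (U ⊓ V).ι).map φ) :=
    isIso_restrict_of_app _ _ fun W hW => isIso_app_of_restrict U φ hφ W (hW.trans inf_le_left)
  have hcV : IsIso ((restrictFunctor (U ⊓ V).ι).map c) :=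
    isIso_restrict_of_app _ _ fun W hW => isIso_app_of_restrict V c hVc W (hW.trans inf_le_right)
  obtain ⟨J, l, m, hJ, hl, hm⟩ := exists_absorb hA.1 hB.1 hC.1 hG φ b c (U ⊓ V) hφV hcV
  have hξJ : i (genericPoint Z) ∉ J.support := fun h => Set.disjoint_left.1 hJ h ⟨hU, hV⟩
  have hlm : Mono l := mono_of_mono_fac hl
  have hmm : Mono m := by
    have h1 : Mono (m ≫ c) := by rw [← hm]; exact mono_comp _ _
    exact mono_of_mono m c
  refine ⟨r, J, m, hr, hξJ, hmm, ?_⟩
  -- stalks at `ξ`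
  have h1 : IsIso ((restrictFunctor (U ⊓ V).ι).map (Dual3.idealMulι J G)) :=
    isIso_restrict_idealMulι J _ (by rw [Scheme.Opens.range_ι]; exact hJ) hG.1
  have h2 : IsIso ((stalkF X (i (genericPoint Z))).map (Dual3.idealMulι J G)) :=
    isIso_stalk_of_isIso_restrict (U ⊓ V) _ _ ⟨hU, hV⟩
  have h3 : IsIso ((stalkF X (i (genericPoint Z))).map l) := by
    have : IsIso ((stalkF X (i (genericPoint Z))).map l ≫ (stalkF X (i (genericPoint Z))).map φ) := by
      rw [← Functor.map_comp, hl]; exact h2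
    exact IsIso.of_isIso_comp_right _ ((stalkF X (i (genericPoint Z))).map φ)
  have h4 : IsIso ((stalkF X (i (genericPoint Z))).map m ≫ (stalkF X (i (genericPoint Z))).map c) := by
    rw [← Functor.map_comp, ← hm, Functor.map_comp]; infer_instance
  exact IsIso.of_isIso_comp_right _ ((stalkF X (i (genericPoint Z))).map c)

/-- Dévissage for modules with small support. -/
theorem small [IsNoetherian X] (T : Set X) (P : X.Modules → Prop)
    (hP : ∀ M N : X.Modules, Nonempty (M ≅ N) → P M → P N)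
    (h₀ : ∀ M : X.Modules, IsZero M → P M)
    (h₁ : ∀ S : ShortComplex X.Modules, S.ShortExact → Coh.IsCoh S.X₁ → Coh.IsCoh S.X₂ → Coh.IsCoh S.X₃ →
      P S.X₁ → P S.X₃ → P S.X₂)
    (h₃ : ∀ (Z : Scheme.{u}) (i : Z ⟶ X), IsClosedImmersion i → IsIntegral Z → Set.range ⇑i ⊆ T →
      ∀ (I : Z.Modules) (ι : I ⟶ Coh.structureModule Z), Mono ι → Coh.IsQCoh I → ¬ IsZero I →
        P ((Coh.push i).obj I))
    (F : X.Modules) (hF : Coh.IsCoh F) (hsupp : CohB1.support F ⊆ T) : P F := by
  refine Groth.Agent.CohqA.DevInd.coh_induction (fun M => CohB1.support M ⊆ T → P M) ?_ ?_ ?_ F hF hsupp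
  · rintro M N ⟨e⟩ h hN
    exact hP M N ⟨e⟩ (h ((support_iso e).subset.trans hN))
  · exact fun M hM _ => h₀ M hM
  · rintro A B f hf hA hB ⟨Z, i, hi, hZ, I, ι, hι, hI, hI0, ⟨e⟩⟩ hPA hBT
    have h1 := shortExact_of_mono f
    refine h₁ _ h1 hA hB (CycB.CohProp.isCoh_cokernel f hA hB)
      (hPA ((support_subset_of_mono f).trans hBT)) ?_
    refine hP _ _ ⟨e.symm⟩ (h₃ Z i hi hZ ?_ I ι hι hI hI0)
    rw [← support_push_ideal i ι hI hI0, ← support_iso e]
    exact (support_subset_of_epi (cokernel.π f)).trans hBT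

/-- Extensions, summands, and small modifications (S9522). -/
theorem devissage_summand [IsNoetherian X]
    (Z₀ : Set X) (ξ : X) (hξ : ξ ∈ Z₀ ∧ closure {ξ} = Z₀)
    (P : X.Modules → Prop) (hP : ∀ M N : X.Modules, Nonempty (M ≅ N) → P M → P N)
    (h₀ : ∀ M : X.Modules, IsZero M → P M)
    (h₁ : ∀ S : ShortComplex X.Modules, S.ShortExact → Coh.IsCoh S.X₁ → Coh.IsCoh S.X₂ → Coh.IsCoh S.X₃ →
      P S.X₁ → P S.X₃ → P S.X₂)
    (h₂ : ∀ (F : X.Modules) (r : ℕ), Coh.IsCoh F → 1 ≤ r → P (∐ fun _ : Fin r => F) → P F)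
    (h₃ : ∀ (Z : Scheme.{u}) (i : Z ⟶ X), IsClosedImmersion i → IsIntegral Z →
      Set.range ⇑i ⊆ Z₀ → Set.range ⇑i ≠ Z₀ →
      ∀ (I : Z.Modules) (ι : I ⟶ Coh.structureModule Z), Mono ι → Coh.IsQCoh I → P ((Coh.push i).obj I))
    (h₄ : ∃ G : X.Modules, Coh.IsCoh G ∧ CohB1.support G = Z₀ ∧
      (∀ a ∈ IsLocalRing.maximalIdeal (X.presheaf.stalk ξ), ∀ m : ↑(G.presheaf.stalk ξ), a • m = 0) ∧
      ∀ J : X.IdealSheafData, ξ ∉ (J.support : Set X) →
        ∃ (G' : X.Modules) (ι' : G' ⟶ (Dual3.idealMul J).obj G), Mono ι' ∧ Coh.IsQCoh G' ∧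
          IsIso ((TopCat.Presheaf.stalkFunctor _ ξ).map (ι' ≫ Dual3.idealMulι J G).mapPresheaf) ∧ P G')
    (F : X.Modules) (hF : Coh.IsCoh F) (hsupp : CohB1.support F ⊆ Z₀) : P F := by
  -- modules supported away from `ξ`
  have hsmall : ∀ M : X.Modules, Coh.IsCoh M → CohB1.support M ⊆ Z₀ → ξ ∉ CohB1.support M → P M := by
    intro M hM hMZ hMξ
    refine small (CohB1.support M) P hP h₀ h₁ (fun Z i hi hZ hr I ι hι hI _ => ?_) M hM subset_rfl
    refine h₃ Z i hi hZ (hr.trans hMZ) (fun h => hMξ (hr ?_)) I ι hι hI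
    rw [h]
    exact hξ.1
  refine small Z₀ P hP h₀ h₁ (fun Z i hi hZ hr I ι hι hI hI0 => ?_) F hF hsupp
  by_cases hne : Set.range i = Z₀
  · -- the main case
    have hZN : IsNoetherian Z := isNoetherian_of_closed i
    have hIc : Coh.IsCoh I := CycB.CohProp.isCoh_of_mono ι hI (isCoh_structure Z)
    have hiξ : i (genericPoint Z) = ξ := by
      have h1 := Groth.Agent.CohqB.DevGeom.closure_image_genericPoint i
      rw [hne] at h1
      exact IsGenericPoint.eq (S := Z₀) h1 hξ.2
    obtain ⟨G, hG, hGs, hann, hJG⟩ := h₄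
    subst hiξ
    obtain ⟨r, J, m, hr1, hξJ, hm, hmi⟩ := exists_mono_to_push i G hG hann
      (by rw [hGs]; exact hξ.1) ι hI hI0
    obtain ⟨G', ι', hι', hG', hG'i, hPG'⟩ := hJG J hξJ
    have hG'c : Coh.IsCoh G' := CycB.CohProp.isCoh_of_mono ι' hG' (isCoh_obj J hG)
    have hC : Coh.IsCoh ((Coh.push i).obj (∐ fun _ : Fin r => I)) :=
      isCoh_push i (CycB.CohProp.isCoh_finite_coproduct _ fun _ => hIc)
    -- `G' ⟶ i_* I^r`
    have h1 : IsIso ((stalkF X (i (genericPoint Z))).map (ι' ≫ Dual3.idealMulι J G)) := hG'i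
    have h2 : IsIso ((stalkF X (i (genericPoint Z))).map ι') := by
      have h3 : Mono ((stalkF X (i (genericPoint Z))).map ι') := inferInstance
      have h4 : IsIso ((stalkF X (i (genericPoint Z))).map ι' ≫
          (stalkF X (i (genericPoint Z))).map (Dual3.idealMulι J G)) := by
        rw [← Functor.map_comp]; exact h1
      have h5 : Epi ((stalkF X (i (genericPoint Z))).map (Dual3.idealMulι J G)) :=
        epi_of_epi ((stalkF X (i (genericPoint Z))).map ι') _
      have h6 : Mono ((stalkF X (i (genericPoint Z))).map (Dual3.idealMulι J G)) := inferInstance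
      have h7 : IsIso ((stalkF X (i (genericPoint Z))).map (Dual3.idealMulι J G)) :=
        isIso_of_mono_of_epi _
      exact IsIso.of_isIso_comp_right _ ((stalkF X (i (genericPoint Z))).map (Dual3.idealMulι J G))
    have h3 : IsIso ((stalkF X (i (genericPoint Z))).map (ι' ≫ m)) := by
      rw [Functor.map_comp]; infer_instance
    have hmono : Mono (ι' ≫ m) := mono_comp _ _
    obtain ⟨hQ, hQξ, hQs⟩ := cokernel_small (ι' ≫ m) hG'c hC _ h3
    have hCs : CohB1.support ((Coh.push i).obj (∐ fun _ : Fin r => I)) ⊆ Z₀ :=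
      (Groth.Agent.CohqB.DevSimple.support_push_subset_range i _).trans hr
    have hPC : P ((Coh.push i).obj (∐ fun _ : Fin r => I)) :=
      h₁ _ (shortExact_of_mono (ι' ≫ m)) hG'c hC hQ hPG' (hsmall _ hQ (hQs.trans hCs) hQξ)
    refine h₂ _ r (isCoh_push i hIc) hr1 (hP _ _ ⟨?_⟩ hPC)
    exact PreservesCoproduct.iso (Coh.push i) (fun _ : Fin r => I)
  · exact h₃ Z i hi hZ hr hne I ι hι hI

/-- Two implications and summands (S10865). -/
theorem devissage_two [IsNoetherian X] [Nonempty X]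
    (K : ObjectProperty X.Modules) [K.IsClosedUnderIsomorphisms]
    (ha : ∀ S : ShortComplex X.Modules, S.ShortExact → Coh.IsCoh S.X₁ → Coh.IsCoh S.X₂ → Coh.IsCoh S.X₃ →
      (K S.X₂ → K S.X₃ → K S.X₁) ∧ (K S.X₁ → K S.X₃ → K S.X₂))
    (hb : ∀ (F : X.Modules) (d : ℕ), 1 ≤ d → Coh.IsCoh F → K (∐ fun _ : Fin d => F) → K F)
    (hgen : ∀ (Z : Scheme.{u}) (i : Z ⟶ X) [IsClosedImmersion i] [IsIntegral Z],
      ∃ H : Z.Modules, Coh.IsCoh H ∧ Nontrivial (H.presheaf.stalk (genericPoint Z)) ∧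
        K ((Scheme.Modules.pushforward i).obj H))
    (F : X.Modules) (hF : Coh.IsCoh F) : K F := by
  have hP : ∀ M N : X.Modules, Nonempty (M ≅ N) → K M → K N := fun M N ⟨e⟩ h => K.prop_of_iso e h
  have h1 : ∀ S : ShortComplex X.Modules, S.ShortExact → Coh.IsCoh S.X₁ → Coh.IsCoh S.X₂ →
      Coh.IsCoh S.X₃ → K S.X₁ → K S.X₃ → K S.X₂ := fun S hS a b c => (ha S hS a b c).2
  -- `K 0`
  have h0 : ∀ M : X.Modules, IsZero M → K M := by
    intro M hM
    obtain ⟨x⟩ := ‹Nonempty X›
    obtain ⟨Z, i, hi, hZ, hr⟩ := Groth.Agent.CohqB.DevGeom.exists_integral (closure {x}) isClosed_closure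
      isIrreducible_singleton.closure
    obtain ⟨H, hH, -, hKH⟩ := hgen Z i
    have hHc : Coh.IsCoh ((Scheme.Modules.pushforward i).obj H) := isCoh_push i hH
    have hse : (ShortComplex.mk (0 : M ⟶ (Scheme.Modules.pushforward i).obj H) (𝟙 _)
        (by rw [zero_comp])).ShortExact :=
      { exact := (ShortComplex.exact_iff_mono _ rfl).2 (by dsimp; infer_instance)
        mono_f := ⟨fun a b _ => hM.eq_of_tgt a b⟩
        epi_g := by dsimp; infer_instance }
    exact (ha _ hse (Groth.Agent.PerfA.CohSerre.isCoh_of_isZero hM) hHc hHc).1 hKH hKH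
  -- Noetherian induction on the closed subset containing the support
  suffices claim : ∀ (Y : Closeds X), ∀ F : X.Modules, Coh.IsCoh F → CohB1.support F ⊆ Y → K F from
    claim ⊤ F hF (fun _ _ => trivial)
  intro Y
  induction Y using WellFoundedLT.induction with
  | _ Y ih =>
    intro F hF hFY
    refine small (Y : Set X) K hP h0 h1 (fun Z i hi hZ hr I ι hι hI hI0 => ?_) F hF hFY
    have hZN : IsNoetherian Z := isNoetherian_of_closed i
    have hIc : Coh.IsCoh I := CycB.CohProp.isCoh_of_mono ι hI (isCoh_structure Z)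
    have ih' : ∀ M : X.Modules, Coh.IsCoh M → CohB1.support M ⊆ Set.range i →
        i (genericPoint Z) ∉ CohB1.support M → K M := by
      intro M hM hMr hMξ
      refine ih ⟨CohB1.support M, isClosed_support hM⟩ (lt_of_le_of_ne (hMr.trans hr) fun heq => hMξ ?_)
        M hM subset_rfl
      have : (CohB1.support M : Set X) = Y := congr_arg (fun Z : Closeds X => (Z : Set X)) heq
      rw [this]
      exact hr ⟨_, rfl⟩
    obtain ⟨H, hH, hHne, hKH⟩ := hgen Z i
    obtain ⟨r, J, U, ψ, hU, hJU, hψm, hψ⟩ := exists_mono_ideal_pow H hH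
    have hgen : genericPoint Z ∈ U := by
      exact ((genericPoint_spec Z).mem_open_set_iff U.2).2 (by simpa using hU)
    let I₁ : Z.Modules := (Dual3.idealMul J).obj (Coh.structureModule Z)
    have hI₁ : Coh.IsCoh I₁ := isCoh_obj J (isCoh_structure Z)
    let e' : (Dual3.idealMul J).obj (FlatMod.freeMod Z r) ≅ ∐ fun _ : Fin r => I₁ :=
      PreservesCoproduct.iso (Dual3.idealMul J) (fun _ : Fin r => Coh.structureModule Z)
    have hψs : IsIso ((stalkF Z (genericPoint Z)).map ψ) := isIso_stalk_of_isIso_restrict U ψ _ hgen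
    have hf : IsIso ((stalkF Z (genericPoint Z)).map (e'.inv ≫ ψ)) := by
      rw [Functor.map_comp]; infer_instance
    have hfm : Mono (e'.inv ≫ ψ) := mono_comp _ _
    have hsum : Coh.IsCoh (∐ fun _ : Fin r => I₁) := CycB.CohProp.isCoh_finite_coproduct _ fun _ => hI₁
    -- `K` passes to subobjects which are everything at `ξ`
    have hdown : ∀ (A B : Z.Modules) (f : A ⟶ B), Mono f → Coh.IsCoh A → Coh.IsCoh B →
        IsIso ((stalkF Z (genericPoint Z)).map f) → (K ((Coh.push i).obj A) ↔ K ((Coh.push i).obj B)) := by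
      intro A B f hf hA hB hfs
      obtain ⟨V, hV, hVi⟩ := StalkLocal.exists_isIso hB hA f _ hfs
      have h1 := isIso_stalk_push i f V _ hV hVi
      have h2 : Mono ((Coh.push i).map f) := inferInstanceAs (Mono ((pushforward i).map f))
      obtain ⟨hQ, hQξ, hQs⟩ := cokernel_small ((Coh.push i).map f) (isCoh_push i hA) (isCoh_push i hB) _ h1
      have hKQ := ih' _ hQ (hQs.trans (Groth.Agent.CohqB.DevSimple.support_push_subset_range i _)) hQξ
      have h3 := ha _ (shortExact_of_mono ((Coh.push i).map f)) (isCoh_push i hA) (isCoh_push i hB) hQ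
      exact ⟨fun h => h3.2 h hKQ, fun h => h3.1 h hKQ⟩
    have hK1 : K ((Coh.push i).obj (∐ fun _ : Fin r => I₁)) := (hdown _ _ _ hfm hsum hH hf).2 hKH
    have hηH : genericPoint Z ∈ CohB1.support H := not_subsingleton_iff_nontrivial.2 hHne
    have hηs : genericPoint Z ∈ CohB1.support (∐ fun _ : Fin r => I₁) :=
      (mem_support_of_isIso_stalk _ _ hf).2 hηH
    have hcop : ¬ IsZero (∐ fun _ : Fin r => I₁) := fun h =>
      (not_mem_support_iff_isZero _ _).2 ((stalkF Z _).map_isZero h) hηs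
    have hr1 : 1 ≤ r := by
      rcases Nat.eq_zero_or_pos r with rfl | h
      · exfalso
        apply hcop
        rw [IsZero.iff_id_eq_zero]
        exact Sigma.hom_ext _ _ fun j => j.elim0
      · exact h
    have hne₁ : ¬ IsZero I₁ := by
      intro h
      apply hcop
      rw [IsZero.iff_id_eq_zero]
      exact Sigma.hom_ext _ _ fun j => h.eq_of_src _ _
    have hK2 : K ((Coh.push i).obj I₁) := hb _ r hr1 (isCoh_push i hI₁)
      (hP _ _ ⟨PreservesCoproduct.iso (Coh.push i) (fun _ : Fin r => I₁)⟩ hK1)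
    -- the intersection of `I₁` and `I`
    let ι₁ : I₁ ⟶ Coh.structureModule Z := Dual3.idealMulι J _
    have hs₁ : IsIso ((stalkF Z (genericPoint Z)).map ι₁) := isIso_stalk_ideal ι₁ hne₁
    have hs : IsIso ((stalkF Z (genericPoint Z)).map ι) := isIso_stalk_ideal ι hI0
    have hsq : IsPullback ((stalkF Z (genericPoint Z)).map (Limits.pullback.fst ι₁ ι))
        ((stalkF Z (genericPoint Z)).map (Limits.pullback.snd ι₁ ι))
        ((stalkF Z (genericPoint Z)).map ι₁) ((stalkF Z (genericPoint Z)).map ι) :=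
      (IsPullback.of_hasPullback ι₁ ι).map (stalkF Z (genericPoint Z))
    have hp1 : IsIso ((stalkF Z (genericPoint Z)).map (Limits.pullback.fst ι₁ ι)) :=
      hsq.isIso_fst_of_isIso
    have hp2 : IsIso ((stalkF Z (genericPoint Z)).map (Limits.pullback.snd ι₁ ι)) :=
      hsq.isIso_snd_of_isIso
    have hI₂ : Coh.IsCoh (Limits.pullback ι₁ ι) :=
      CycB.CohProp.isCoh_of_mono (Limits.pullback.fst ι₁ ι)
        (isQCoh_pullback ι₁ ι hI₁.1 (isCoh_structure Z).1 hI) hI₁
    have hK3 : K ((Coh.push i).obj (Limits.pullback ι₁ ι)) :=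
      (hdown _ _ (Limits.pullback.fst ι₁ ι) inferInstance hI₂ hI₁ hp1).2 hK2
    exact (hdown _ _ (Limits.pullback.snd ι₁ ι) inferInstance hI₂ hIc hp2).1 hK3

end Groth.Agent.Coherent.K47.DevTwo
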