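import Groth.Agent.Coherent.K47.ExtProj
import Groth.Agent.CohqA.RpushLoc
import Groth.Agent.Dcoh.DerSch
import Groth.Agent.CycB.PushStalk

/-!
# Coherence of the Ext-sheaves

* `isZero_ext_freeMod`: `Ext^{n+1}(O^m, G) = 0`;
* `resExt`: `Ext^n(F, G)|_U = Ext^n(F|_U, G|_U)`;
* `isCoh_ext`: `Ext^n(F, G)` is coherent for `F`, `G` coherent on a locally Noetherian scheme;
* `isQCoh_ext`: `Ext^n(F, G)` is quasi-coherent for `F` coherent, `G` quasi-coherent;
* `extShIso`: the frozen `ModSite.extSh` is the derived functor of `homFunctor`.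
-/

set_option autoImplicit false
universe u
set_option maxHeartbeats 400000

open CategoryTheory CategoryTheory.Limits AlgebraicGeometry Opposite

namespace Groth.Agent.Coherent.K47.ExtCoh

open Groth.Agent.CohqB.HomSheaf Groth.Agent.Coherent.K47.ToRestrict Groth.Agent.Coherent.K47.HomFlasque
open Groth.Agent.Dcoh.MonClosed Groth.Agent.CycB.StalkExact Groth.Agent.Coherent.K47.ExtLES
open Groth.Agent.Coherent.K47.ExtProj Groth.Agent.Sga4h.RDExact

variable {X : Scheme.{u}}

theorem exists_affine (x : X) : ∃ U : X.Opens, IsAffineOpen U ∧ x ∈ U := by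
  obtain ⟨_, ⟨U, hU, rfl⟩, hxU, -⟩ :=
    X.isBasis_affineOpens.exists_subset_of_mem_open (Set.mem_univ x) isOpen_univ
  exact ⟨U, hU, hxU⟩

theorem projective_stalk_freeMod (n : ℕ) (x : X) :
    Module.Projective (X.presheaf.stalk x) ((FlatMod.freeMod X n).presheaf.stalk x) := by
  have : Module.Free (X.presheaf.stalk x) ((Coh.structureModule X).presheaf.stalk x) :=
    Module.Free.of_equiv (Groth.Agent.CycB.PushStalk.unitStalk X x)
  exact Module.Projective.of_equiv (GenIso.stalkSigmaEquiv (Coh.structureModule X) n x).symm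

/-- `Ext^{n+1}(O^m, G) = 0`. -/
theorem isZero_ext_freeMod [IsLocallyNoetherian X] [HasInjectiveResolutions X.Modules] (m : ℕ) (G : X.Modules)
    (n : ℕ) : IsZero (((homFunctor (FlatMod.freeMod X m)).rightDerived (n + 1)).obj G) :=
  isZero_ext (Groth.Agent.PerfA.CohSerre.isCoh_freeMod m) (fun x => projective_stalk_freeMod m x) G n

/-- `Ext^n(F, G)|_U = Ext^n(F|_U, G|_U)`. -/
noncomputable def resExt {Y : Scheme.{u}} (j : Y ⟶ X) [IsOpenImmersion j] [HasInjectiveResolutions X.Modules]
    [HasInjectiveResolutions Y.Modules] (F : X.Modules) (n : ℕ) :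
    (homFunctor F).rightDerived n ⋙ Scheme.Modules.restrictFunctor j ≅
      Scheme.Modules.restrictFunctor j ⋙ (homFunctor (F.restrict j)).rightDerived n :=
  (postIso (homFunctor F) (Scheme.Modules.restrictFunctor j) n).symm ≪≫
    congrIso (K50.Restr.homRes j F) n ≪≫
    preIso (Scheme.Modules.restrictFunctor j) (homFunctor (F.restrict j))
      (fun I hI => Functor.PreservesInjectiveObjects.injective_obj (F := Scheme.Modules.restrictFunctor j) hI) n

/-- A coherent module on a Noetherian affine scheme is a quotient of a finite free module. -/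
theorem exists_epi_freeMod [IsAffine X] {F : X.Modules} (hF : Coh.IsCoh F) :
    ∃ (m : ℕ) (φ : FlatMod.freeMod X m ⟶ F), Epi φ := by
  have e : F.restrict (𝟙 X) ≅ F := Scheme.Modules.restrictFunctorId.app F
  have hft : CohB1.IsFT (F.restrict (𝟙 X)) := (Groth.Agent.PerfA.CohSerre.isCoh_restrict (𝟙 X) hF).2
  obtain ⟨m, φ, hφ⟩ := Groth.Agent.PerfA.GenOpen.exists_epi_restrict (𝟙 X) F hF.1 hft
  refine ⟨m, φ, ?_⟩
  have h1 := NatIso.naturality_1 (Scheme.Modules.restrictFunctorId (X := X)) φ
  have h2 : φ = Scheme.Modules.restrictFunctorId.inv.app _ ≫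
      (Scheme.Modules.restrictFunctor (𝟙 X)).map φ ≫ Scheme.Modules.restrictFunctorId.hom.app F := h1.symm
  rw [h2]
  exact epi_comp' inferInstance (epi_comp' hφ inferInstance)

theorem ext_affine [IsAffine X] [IsLocallyNoetherian X] [HasInjectiveResolutions X.Modules]
    (P : X.Modules → Prop) (hcok : ∀ {M N : X.Modules} (f : M ⟶ N), P M → P N → P (cokernel f))
    (hiso : ∀ {M N : X.Modules}, (M ≅ N) → P M → P N) {G : X.Modules}
    (h0 : ∀ F : X.Modules, Coh.IsCoh F → P (homSheaf F G)) (n : ℕ) :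
    ∀ F : X.Modules, Coh.IsCoh F → P (((homFunctor F).rightDerived n).obj G) := by
  induction n with
  | zero =>
    intro F hF
    exact hiso ((Functor.rightDerivedZeroIsoSelf (homFunctor F)).app G).symm (h0 F hF)
  | succ n ih =>
    intro F hF
    obtain ⟨m, φ, hφ⟩ := exists_epi_freeMod hF
    have hfree := Groth.Agent.PerfA.CohSerre.isCoh_freeMod (X := X) m
    have hS : (ShortComplex.mk (kernel.ι φ) φ (kernel.condition φ)).ShortExact :=
      { exact := ShortComplex.exact_kernel φ }
    obtain ⟨e⟩ := nonempty_cokernel_iso hS G n (isZero_ext_freeMod m G n)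
    exact hiso e (hcok _ (ih _ hfree) (ih _ (Groth.Agent.CycB.CohProp.isCoh_kernel φ hfree hF)))

/-- `Ext^n(F, G)` is coherent for `F`, `G` coherent. -/
theorem isCoh_ext [IsLocallyNoetherian X] [HasInjectiveResolutions X.Modules] {F G : X.Modules}
    (hF : Coh.IsCoh F) (hG : Coh.IsCoh G) (n : ℕ) : Coh.IsCoh (((homFunctor F).rightDerived n).obj G) := by
  refine Groth.Agent.PerfA.CohSerre.isCoh_of_restrict _ fun x => ?_
  obtain ⟨U, hU, hxU⟩ := exists_affine x
  have : IsAffine U := hU
  have := Groth.Agent.Dcoh.DerSch.hasInjectiveResolutions (U : Scheme.{u})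
  refine ⟨U, hxU, Groth.Agent.PerfA.CohSerre.isCoh_of_iso ((resExt U.ι F n).app G).symm ?_⟩
  exact ext_affine Coh.IsCoh (fun f h1 h2 => Groth.Agent.CycB.CohProp.isCoh_cokernel f h1 h2)
    (fun e h => Groth.Agent.PerfA.CohSerre.isCoh_of_iso e h)
    (fun F hF => isCoh_homSheaf hF
      (Groth.Agent.PerfA.CohSerre.isCoh_restrict U.ι hG)) n _ (Groth.Agent.PerfA.CohSerre.isCoh_restrict U.ι hF)

/-- `Ext^n(F, G)` is quasi-coherent for `F` coherent, `G` quasi-coherent. -/
theorem isQCoh_ext [IsLocallyNoetherian X] [HasInjectiveResolutions X.Modules] {F G : X.Modules}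
    (hF : Coh.IsCoh F) (hG : Coh.IsQCoh G) (n : ℕ) : Coh.IsQCoh (((homFunctor F).rightDerived n).obj G) := by
  refine Groth.Agent.PerfA.QCohSerre.isQCoh_of_restrict_opens _ fun x => ?_
  obtain ⟨U, hU, hxU⟩ := exists_affine x
  have : IsAffine U := hU
  have := Groth.Agent.Dcoh.DerSch.hasInjectiveResolutions (U : Scheme.{u})
  refine ⟨U, hxU, Groth.Agent.PerfA.QCohSerre.isQCoh_of_iso ((resExt U.ι F n).app G).symm ?_⟩
  exact ext_affine Coh.IsQCoh (fun f h1 h2 => Groth.Agent.CohqB.QC6.isQCoh_cokernel f h1 h2)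
    (fun e h => Groth.Agent.PerfA.QCohSerre.isQCoh_of_iso e h)
    (fun F hF => isQCoh_homSheaf hF.1 (Groth.Agent.PerfA.QCohSerre.isQCoh_restrict U.ι hG)
      fun U hU => finitePresentation_of_isCoh hF hU) n _
    (Groth.Agent.PerfA.CohSerre.isCoh_restrict U.ι hF)

/-- The frozen Ext-sheaf is the derived functor of the concrete sheaf Hom. -/
noncomputable def extShIso (F : X.Modules) [ModSite.HasSheafHom (O := X.sheaf) F]
    [HasInjectiveResolutions (ModSite.Mod X.sheaf)] [HasInjectiveResolutions X.Modules] (n : ℕ) :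
    ModSite.extSh (O := X.sheaf) F n ≅ (homFunctor F).rightDerived n :=
  let F' : X.Modules ⥤ X.Modules := ModSite.sheafHom (O := X.sheaf) F
  let e : F' ≅ homFunctor F := K50.SectOn.sheafHomIso F
  have : F'.Additive := Functor.additive_of_iso e.symm
  congrIso (A := X.Modules) (B := X.Modules) (F := F') e n

end Groth.Agent.Coherent.K47.ExtCoh
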