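import Groth.Agent.Coherent.K47.HomFlasque
import Groth.Agent.Coherent.K50.Restr
import Groth.Agent.Sga4h.FunLES
import Groth.Agent.Sga4h.RDExact
import Groth.Agent.VarietyB.ExactLoc
import Groth.Agent.CohqB.HomSheafCoh

/-!
# The long exact sequence of Ext-sheaves in the first variable

* `preNat ψ : homFunctor P ⟶ homFunctor K` for `ψ : K ⟶ P`;
* `shortExact_pre`: `0 → Hom(F, I) → Hom(P, I) → Hom(K, I) → 0` for `0 → K → P → F → 0` and `I` injective.
-/

set_option autoImplicit false
universe u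

open CategoryTheory CategoryTheory.Limits AlgebraicGeometry Opposite

namespace Groth.Agent.Coherent.K47.ExtLES

open Groth.Agent.CohqB.HomSheaf Groth.Agent.Coherent.K47.ToRestrict Groth.Agent.Coherent.K47.HomFlasque
open Groth.Agent.Dcoh.MonClosed

variable {X : Scheme.{u}} {K P F : X.Modules}

/-- Precomposition, as a natural transformation. -/
noncomputable def preNat (ψ : K ⟶ P) : homFunctor P ⟶ homFunctor K where
  app N := homPre ψ N
  naturality N N' φ := by
    refine Scheme.Modules.hom_ext _ _ fun U => ?_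
    ext s
    exact sec_ext fun V hV m => rfl

theorem preNat_app (ψ : K ⟶ P) (N : X.Modules) : (preNat ψ).app N = homPre ψ N := rfl

theorem homPre_comp (f : K ⟶ P) (g : P ⟶ F) (N : X.Modules) : homPre g N ≫ homPre f N = homPre (f ≫ g) N := by
  refine Scheme.Modules.hom_ext _ _ fun U => ?_
  ext s
  exact sec_ext fun V hV m => rfl

theorem homPre_zero (N : X.Modules) : homPre (0 : K ⟶ P) N = 0 := by
  refine Scheme.Modules.hom_ext _ _ fun U => ?_
  ext s
  refine sec_ext fun V hV m => ?_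
  exact map_zero (comp s V hV)

theorem pre_comp_zero {S : ShortComplex X.Modules} (N : X.Modules) :
    (preNat S.g).app N ≫ (preNat S.f).app N = 0 := by
  refine (homPre_comp S.f S.g N).trans ?_
  rw [S.zero, homPre_zero]
  rfl

/-- A section of `Hom(P, I)` over `U` killed on `K` comes from `Hom(F, I)`. -/
theorem exists_of_pre_eq_zero {S : ShortComplex X.Modules} (hS : S.ShortExact) (I : X.Modules) [Injective I]
    (U : X.Opens) (s : Γ(homSheaf S.X₂ I, U)) (hs : (homPre S.f I).app U s = 0) :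
    ∃ t : Γ(homSheaf S.X₃ I, U), (homPre S.g I).app U t = s := by
  have := hS.epi_g
  have := hS.mono_f
  let j := U.ι
  let S' := S.map (Scheme.Modules.restrictFunctor j)
  have hS' : S'.ShortExact := hS.map_of_exact (Scheme.Modules.restrictFunctor j)
  have hS'e := hS'.epi_g
  let σ : S'.X₂ ⟶ (Scheme.Modules.restrictFunctor j).obj I := toRestrict j s U.opensRange_ι.le
  have h0 : S'.f ≫ σ = 0 := by
    refine Scheme.Modules.hom_ext _ _ fun V => ?_
    ext m
    have h1 := congrArg (fun t => comp t (j ''ᵁ V) (image_le j U.opensRange_ι.le V) m) hs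
    exact h1
  let τ : S'.X₃ ⟶ (Scheme.Modules.restrictFunctor j).obj I := hS'.exact.desc σ h0
  have hτ : S'.g ≫ τ = σ := hS'.exact.g_desc σ h0
  obtain ⟨ψ, hψ⟩ := exists_extend_of_injective j τ
  refine ⟨ofHom ψ U, sec_ext fun V hV m => ?_⟩
  rw [comp_homPre, comp_ofHom]
  have e : U.ι ''ᵁ (U.ι ⁻¹ᵁ V) = V := by
    rw [Scheme.Hom.image_preimage_eq_opensRange_inf, Scheme.Opens.opensRange_ι, inf_eq_right]
    exact hV
  have key : ∀ (V' : X.Opens) (hV' : V' ≤ U), V' = U.ι ''ᵁ (U.ι ⁻¹ᵁ V) → ∀ m : Γ(S.X₂, V'),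
      ψ.app V' (S.g.app V' m) = comp s V' hV' m := by
    rintro _ hV' rfl m
    have h2 : S'.g ≫ (Scheme.Modules.restrictFunctor j).map ψ = σ := by rw [hψ, hτ]
    exact congr(($h2).app (U.ι ⁻¹ᵁ V) m)
  exact key V hV e.symm m

theorem pre_injective {S : ShortComplex X.Modules} (hS : S.ShortExact) (N : X.Modules)
    (U : X.Opens) (s : Γ(homSheaf S.X₃ N, U)) (hs : (homPre S.g N).app U s = 0) : s = 0 := by
  let j := U.ι
  let S' := S.map (Scheme.Modules.restrictFunctor j)
  have hS' : S'.ShortExact := hS.map_of_exact (Scheme.Modules.restrictFunctor j)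
  have hS'e := hS'.epi_g
  let σ : S'.X₃ ⟶ (Scheme.Modules.restrictFunctor j).obj N := toRestrict j s U.opensRange_ι.le
  have h0 : S'.g ≫ σ = 0 := by
    refine Scheme.Modules.hom_ext _ _ fun V => ?_
    ext m
    have h1 := congrArg (fun t => comp t (j ''ᵁ V) (image_le j U.opensRange_ι.le V) m) hs
    exact h1
  have hσ : σ = 0 := by rw [← cancel_epi S'.g, h0, Limits.comp_zero]
  refine sec_ext fun V hV m => ?_
  have e : U.ι ''ᵁ (U.ι ⁻¹ᵁ V) = V := by
    rw [Scheme.Hom.image_preimage_eq_opensRange_inf, Scheme.Opens.opensRange_ι, inf_eq_right]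
    exact hV
  have key : ∀ (V' : X.Opens) (hV' : V' ≤ U), V' = U.ι ''ᵁ (U.ι ⁻¹ᵁ V) → ∀ m : Γ(S.X₃, V'),
      comp s V' hV' m = 0 := by
    rintro _ hV' rfl m
    exact congr(($hσ).app (U.ι ⁻¹ᵁ V) m)
  exact key V hV e.symm m

/-- `0 → Hom(F, I) → Hom(P, I) → Hom(K, I) → 0` is exact for `I` injective. -/
theorem shortExact_pre {S : ShortComplex X.Modules} (hS : S.ShortExact) (I : X.Modules) (hI : Injective I) :
    (ShortComplex.mk ((preNat S.g).app I) ((preNat S.f).app I) (pre_comp_zero I)).ShortExact := by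
  have := hS.mono_f
  refine Groth.Agent.VarietyB.ExactLoc.shortExact_of_local _ ?_ ?_ ?_
  · intro U s hs
    exact pre_injective hS I U s hs
  · intro U s hs x hx
    obtain ⟨t, ht⟩ := exists_of_pre_eq_zero hS I U s hs
    refine ⟨U, le_rfl, hx, t, ht.trans ?_⟩
    exact (Groth.Agent.Fdesc.QCohStalk.map_self _ _ _).symm
  · intro U s x hx
    obtain ⟨ψ, rfl⟩ := exists_ofHom U s
    refine ⟨U, le_rfl, hx, ofHom (Injective.factorThru ψ S.f) U, ?_⟩
    refine (homPre_ofHom S.f (Injective.factorThru ψ S.f) U).trans ?_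
    rw [Injective.comp_factorThru]
    exact (Groth.Agent.Fdesc.QCohStalk.map_self _ _ _).symm

/-! ### The long exact sequence -/

section LES

variable [HasInjectiveResolutions X.Modules] {S : ShortComplex X.Modules} (hS : S.ShortExact)

/-- `Ext^n(K, G) ⟶ Ext^{n+1}(F, G)`. -/
noncomputable def δ (G : X.Modules) (n : ℕ) :
    ((homFunctor S.X₁).rightDerived n).obj G ⟶ ((homFunctor S.X₃).rightDerived (n + 1)).obj G :=
  Groth.Agent.Sga4h.FunLES.δ (preNat S.g) (preNat S.f) pre_comp_zero (fun I hI => shortExact_pre hS I hI) G n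

theorem comp_δ (G : X.Modules) (n : ℕ) : (NatTrans.rightDerived (preNat S.f) n).app G ≫ δ hS G n = 0 :=
  Groth.Agent.Sga4h.FunLES.comp_δ (preNat S.g) (preNat S.f) pre_comp_zero
    (fun I hI => shortExact_pre hS I hI) G n

theorem δ_comp (G : X.Modules) (n : ℕ) :
    δ hS G n ≫ (NatTrans.rightDerived (preNat S.g) (n + 1)).app G = 0 :=
  Groth.Agent.Sga4h.FunLES.δ_comp (preNat S.g) (preNat S.f) pre_comp_zero
    (fun I hI => shortExact_pre hS I hI) G n

/-- Exactness of `Ext^n(P, G) → Ext^n(K, G) → Ext^{n+1}(F, G)`. -/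
theorem exact₃ (G : X.Modules) (n : ℕ) :
    (ShortComplex.mk ((NatTrans.rightDerived (preNat S.f) n).app G) (δ hS G n) (comp_δ hS G n)).Exact :=
  Groth.Agent.Sga4h.FunLES.exact₃ (preNat S.g) (preNat S.f) pre_comp_zero
    (fun I hI => shortExact_pre hS I hI) G n

/-- Exactness of `Ext^n(K, G) → Ext^{n+1}(F, G) → Ext^{n+1}(P, G)`. -/
theorem exact₁ (G : X.Modules) (n : ℕ) :
    (ShortComplex.mk (δ hS G n) ((NatTrans.rightDerived (preNat S.g) (n + 1)).app G)
      (δ_comp hS G n)).Exact :=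
  Groth.Agent.Sga4h.FunLES.exact₁ (preNat S.g) (preNat S.f) pre_comp_zero
    (fun I hI => shortExact_pre hS I hI) G n

include hS in
/-- `Ext^{n+1}(F, G) = coker(Ext^n(P, G) → Ext^n(K, G))` if `Ext^{n+1}(P, G) = 0`. -/
theorem nonempty_cokernel_iso (G : X.Modules) (n : ℕ)
    (h : IsZero (((homFunctor S.X₂).rightDerived (n + 1)).obj G)) :
    Nonempty (cokernel ((NatTrans.rightDerived (preNat S.f) n).app G) ≅
      ((homFunctor S.X₃).rightDerived (n + 1)).obj G) := by
  have h1 := exact₃ hS G n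
  have h2 : Epi (δ hS G n) := (exact₁ hS G n).epi_f (h.eq_of_tgt _ _)
  have h3 := h1.gIsCokernel
  exact ⟨(cokernelIsCokernel _).coconePointUniqueUpToIso h3⟩

end LES

/-! ### `Hom(-, G)` of a finite free module -/

/-- `Hom(O, -)` is the identity functor. -/
theorem homPre_id (N : X.Modules) : homPre (𝟙 K) N = 𝟙 _ := by
  refine Scheme.Modules.hom_ext _ _ fun U => ?_
  ext s
  exact sec_ext fun V hV m => rfl

end Groth.Agent.Coherent.K47.ExtLES
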