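import Groth.Agent.Coherent.K47.ToRestrict
import Groth.Agent.Htor.H255.StalkBij
import Groth.Agent.CohqB.HomSheafCoh

/-!
# Extending linear maps between stalks of coherent modules to a neighbourhood
-/

set_option autoImplicit false
universe u

open CategoryTheory CategoryTheory.Limits AlgebraicGeometry Opposite

namespace Groth.Agent.Coherent.K47.HomExtend

open Groth.Agent.CohqB.HomSheaf Groth.Agent.Htor.H255.HomStalk Groth.Agent.Htor.H255.StalkBij
open Groth.Agent.Coherent.K47.ToRestrict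

variable {X : Scheme.{u}} {M N : X.Modules}

theorem stalk_toRestrict {U : X.Opens} (x : X) (hx : x ∈ U) (s : Γ(homSheaf M N, U)) :
    (Scheme.Modules.restrictStalkNatIso U.ι (⟨x, hx⟩ : U)).inv.app M ≫
        (TopCat.Presheaf.stalkFunctor _ (⟨x, hx⟩ : U)).map
          (toRestrict U.ι s U.opensRange_ι.le).mapPresheaf ≫
          (Scheme.Modules.restrictStalkNatIso U.ι (⟨x, hx⟩ : U)).hom.app N =
      AddCommGrpCat.ofHom (homStalk M N x ((homSheaf M N).presheaf.germ U x hx s)).toAddMonoidHom := by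
  refine (Iso.inv_comp_eq ((Scheme.Modules.restrictStalkNatIso U.ι (⟨x, hx⟩ : U)).app M)).2 ?_
  refine AddCommGrpCat.hom_ext (AddMonoidHom.ext fun z => ?_)
  obtain ⟨W, hW, m, rfl⟩ := ((Scheme.Modules.restrictFunctor U.ι).obj M).presheaf.exists_germ_eq z
  have hW' : x ∈ U.ι ''ᵁ W := ⟨⟨x, hx⟩, hW, rfl⟩
  have hWU : U.ι ''ᵁ W ≤ U := image_le U.ι U.opensRange_ι.le W
  have e1 : (Scheme.Modules.restrictStalkNatIso U.ι (⟨x, hx⟩ : U)).hom.app M
      (((Scheme.Modules.restrictFunctor U.ι).obj M).presheaf.germ W ⟨x, hx⟩ hW m) =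
      M.presheaf.germ (U.ι ''ᵁ W) x hW' m :=
    ConcreteCategory.congr_hom (Scheme.Modules.germ_restrictStalkNatIso_hom_app U.ι (⟨x, hx⟩ : U) M hW) m
  have e2 : (TopCat.Presheaf.stalkFunctor AddCommGrpCat.{u} (⟨x, hx⟩ : U)).map
      (toRestrict U.ι s U.opensRange_ι.le).mapPresheaf
      (((Scheme.Modules.restrictFunctor U.ι).obj M).presheaf.germ W ⟨x, hx⟩ hW m) =
      ((Scheme.Modules.restrictFunctor U.ι).obj N).presheaf.germ W ⟨x, hx⟩ hW
        ((toRestrict U.ι s U.opensRange_ι.le).app W m) :=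
    TopCat.Presheaf.stalkFunctor_map_germ_apply W (⟨x, hx⟩ : U) hW _ _
  have e3 : (Scheme.Modules.restrictStalkNatIso U.ι (⟨x, hx⟩ : U)).hom.app N
      (((Scheme.Modules.restrictFunctor U.ι).obj N).presheaf.germ W ⟨x, hx⟩ hW
        ((toRestrict U.ι s U.opensRange_ι.le).app W m)) =
      N.presheaf.germ (U.ι ''ᵁ W) x hW' (comp s (U.ι ''ᵁ W) hWU m) :=
    ConcreteCategory.congr_hom (Scheme.Modules.germ_restrictStalkNatIso_hom_app U.ι (⟨x, hx⟩ : U) N hW) _
  have e4 := homStalk_germ_germ x hx s (U.ι ''ᵁ W) hW' hWU m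
  refine Eq.trans ?_ (e4.symm.trans (congrArg _ e1.symm))
  exact (congrArg _ e2).trans e3

/-- A linear map between the stalks of coherent modules extends to a neighbourhood. -/
theorem exists_extend [IsLocallyNoetherian X] (hM : Coh.IsCoh M) (x : X)
    (ψ : M.presheaf.stalk x →ₗ[X.presheaf.stalk x] N.presheaf.stalk x) :
    ∃ (U : X.Opens) (hx : x ∈ U) (s : Γ(homSheaf M N, U)),
      homStalk M N x ((homSheaf M N).presheaf.germ U x hx s) = ψ := by
  obtain ⟨_, ⟨U, hU, rfl⟩, hxU, -⟩ :=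
    X.isBasis_affineOpens.exists_subset_of_mem_open (Set.mem_univ x) isOpen_univ
  have := finitePresentation_of_isCoh hM hU
  obtain ⟨z, hz⟩ := surjective_homStalk (N := N) hM.1 hU x hxU ψ
  obtain ⟨V, hV, s, rfl⟩ := (homSheaf M N).presheaf.exists_germ_eq z
  exact ⟨V, hV, s, hz⟩

end Groth.Agent.Coherent.K47.HomExtend
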