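import Groth.Agent.Dual.H371.IdealMul
import Groth.Agent.Sga67.CohBasic
import Groth.Agent.Divis.IdealComap

/-!
# `I · f_* F = f_* ((f⁻¹ I) · F)` for an affine morphism `f`
-/

set_option autoImplicit false
universe u

open CategoryTheory CategoryTheory.Limits AlgebraicGeometry Opposite

namespace Groth.Agent.Coherent.K47.IdealPush

open Groth.Agent.FormalB Groth.Agent.FormalB.TrKQuot Groth.Agent.Dual.H371.IdealMul

variable {Y X : Scheme.{u}} (f : Y ⟶ X)

/-- `(I O_Y)(f⁻¹ U) · F(f⁻¹ U) = I(U) · F(f⁻¹ U)`. -/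
theorem mem_ideal_smul_top_iff [IsAffineHom f] (F : Y.Modules) (I : X.IdealSheafData) (U : X.affineOpens)
    (s : Γ(F, f ⁻¹ᵁ U.1)) :
    s ∈ (I.comap f).ideal ⟨f ⁻¹ᵁ U.1, U.2.preimage f⟩ • (⊤ : Submodule Γ(Y, f ⁻¹ᵁ U.1) Γ(F, f ⁻¹ᵁ U.1)) ↔
      (show Γ((Scheme.Modules.pushforward f).obj F, U.1) from s) ∈
        I.ideal U • (⊤ : Submodule Γ(X, U.1) Γ((Scheme.Modules.pushforward f).obj F, U.1)) := by
  have hc : (I.comap f).ideal ⟨f ⁻¹ᵁ U.1, U.2.preimage f⟩ = (I.ideal U).map (f.app U.1).hom := by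
    rw [Divis.IdealComap.ideal_comap I f U ⟨f ⁻¹ᵁ U.1, U.2.preimage f⟩ le_rfl,
      Scheme.Hom.app_eq_appLE]
  rw [hc]
  constructor
  · intro h
    have key : ∀ a ∈ (I.ideal U).map (f.app U.1).hom, ∀ m : Γ(F, f ⁻¹ᵁ U.1),
        (show Γ((Scheme.Modules.pushforward f).obj F, U.1) from (a • m : Γ(F, f ⁻¹ᵁ U.1))) ∈ I.ideal U •
          (⊤ : Submodule Γ(X, U.1) Γ((Scheme.Modules.pushforward f).obj F, U.1)) := by
      intro a ha
      refine Submodule.span_induction ?_ ?_ ?_ ?_ ha
      · rintro _ ⟨b, hb, rfl⟩ m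
        exact Submodule.smul_mem_smul (M := Γ((Scheme.Modules.pushforward f).obj F, U.1)) hb
          (Submodule.mem_top (x := (show Γ((Scheme.Modules.pushforward f).obj F, U.1) from m)))
      · intro m
        rw [zero_smul]
        exact zero_mem _
      · intro x y _ _ hx hy m
        rw [add_smul]
        exact add_mem (hx m) (hy m)
      · intro b x _ hx m
        rw [smul_eq_mul, mul_comm, mul_smul]
        exact hx (b • m)
    exact Submodule.smul_induction_on h (fun a ha m _ => key a ha m) (fun y y' h1 h2 => add_mem h1 h2)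
  · intro h
    have key : ∀ z : Γ((Scheme.Modules.pushforward f).obj F, U.1), z ∈ I.ideal U •
        (⊤ : Submodule Γ(X, U.1) Γ((Scheme.Modules.pushforward f).obj F, U.1)) →
        (show Γ(F, f ⁻¹ᵁ U.1) from z) ∈
        (I.ideal U).map (f.app U.1).hom • (⊤ : Submodule Γ(Y, f ⁻¹ᵁ U.1) Γ(F, f ⁻¹ᵁ U.1)) := by
      intro z hz
      refine Submodule.smul_induction_on hz (fun a ha m _ => ?_) (fun y y' h1 h2 => ?_)
      · exact Submodule.smul_mem_smul (M := Γ(F, f ⁻¹ᵁ U.1)) (Ideal.mem_map_of_mem _ ha)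
          (Submodule.mem_top (x := (show Γ(F, f ⁻¹ᵁ U.1) from m)))
      · exact add_mem (M := Γ(F, f ⁻¹ᵁ U.1)) h1 h2
    exact key s h

/-- `I · f_* F ≅ f_* ((I O_Y) · F)` as submodules of `f_* F`, for an affine morphism `f`. -/
theorem exists_iso [IsAffineHom f] (F : Y.Modules) (hF : Coh.IsQCoh F) (I : X.IdealSheafData) :
    ∃ e : (Dual3.idealMul I).obj ((Scheme.Modules.pushforward f).obj F) ≅
        (Scheme.Modules.pushforward f).obj ((Dual3.idealMul (I.comap f)).obj F),
      e.hom ≫ (Scheme.Modules.pushforward f).map (Dual3.idealMulι (I.comap f) F) =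
        Dual3.idealMulι I ((Scheme.Modules.pushforward f).obj F) := by
  have hG : Coh.IsQCoh ((Scheme.Modules.pushforward f).obj F) := Sga67.CohBasic.isQCoh_push f hF
  have : (Scheme.Modules.pushforward f).IsRightAdjoint :=
    (Scheme.Modules.pullbackPushforwardAdjunction f).isRightAdjoint
  have hlim : PreservesLimitsOfSize.{0, 0} (Scheme.Modules.pushforward f) := inferInstance
  -- `f_*` of the inclusion is mono
  have hmono : Mono ((Scheme.Modules.pushforward f).map (Dual3.idealMulι (I.comap f) F)) := inferInstance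
  -- the factorisation through the kernel
  have h1 : Dual3.idealMulι I ((Scheme.Modules.pushforward f).obj F) ≫
      (Scheme.Modules.pushforward f).map (kπ (I.comap f) F) = 0 := by
    refine SysSect.hom_eq_zero_of_affine _ fun U hU t => ?_
    have h2 := app_mem I hG ⟨U, hU⟩ t
    exact (kπ_app_eq_zero_iff (I.comap f) hF ⟨f ⁻¹ᵁ U, hU.preimage f⟩ _).2
      ((mem_ideal_smul_top_iff f F I ⟨U, hU⟩ _).2 h2)
  obtain ⟨a, ha⟩ : ∃ a : (Dual3.idealMul I).obj ((Scheme.Modules.pushforward f).obj F) ⟶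
      (Scheme.Modules.pushforward f).obj ((Dual3.idealMul (I.comap f)).obj F),
      a ≫ (Scheme.Modules.pushforward f).map (Dual3.idealMulι (I.comap f) F) =
        Dual3.idealMulι I ((Scheme.Modules.pushforward f).obj F) :=
    ⟨_, (KernelFork.IsLimit.lift' (KernelFork.mapIsLimit _ (kernelIsKernel (kπ (I.comap f) F))
      (Scheme.Modules.pushforward f)) _ h1).2⟩
  obtain ⟨b, hb⟩ := exists_lift_of_affine I hG
    ((Scheme.Modules.pushforward f).map (Dual3.idealMulι (I.comap f) F)) fun U t =>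
      (mem_ideal_smul_top_iff f F I U _).1 (app_mem (I.comap f) hF ⟨f ⁻¹ᵁ U.1, U.2.preimage f⟩ t)
  refine ⟨⟨a, b, ?_, ?_⟩, ha⟩
  · rw [← cancel_mono (Dual3.idealMulι I _), Category.assoc, hb, ha, Category.id_comp]
  · rw [← cancel_mono ((Scheme.Modules.pushforward f).map (Dual3.idealMulι (I.comap f) F)),
      Category.assoc, ha, hb, Category.id_comp]

end Groth.Agent.Coherent.K47.IdealPush
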