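import Groth.Agent.Coherent.K47.DevTwo
import Groth.Agent.Coherent.K47.HomExtend
import Groth.Agent.Coherent.K47.IdealPush
import Groth.Agent.Localalg.VanTors

/-!
# Isomorphisms at the generic point

* `stalkSigmaEquiv`: the stalk of a finite power;
* `exists_hom_nhd`: a linear map of stalks extends to a morphism near the point;
* `exists_beta`: for `f : X ⟶ Y` finite surjective between integral Noetherian schemes and `F` coherent on `Y`:
  `f_* G ⟶ F^r`, an isomorphism at the generic point.
-/

set_option autoImplicit false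
universe u

open CategoryTheory CategoryTheory.Limits AlgebraicGeometry Opposite TopologicalSpace
open AlgebraicGeometry.Scheme.Modules
open Groth.Agent.Sga67.CohBasic
open Groth.Agent.CohqB.DevSupport Groth.Agent.CohqB.DevSplit

namespace Groth.Agent.Coherent.K47.GenIso

open Groth.Agent.FormalB Groth.Agent.Dual.H371.IdealMul Groth.Agent.Coherent.K47.TorSub
open Groth.Agent.Coherent.K47.GenFree Groth.Agent.Coherent.K47.DevMono
open Groth.Agent.Coherent.K47.DeligneHom Groth.Agent.Coherent.K47.DevAbs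
open Groth.Agent.Coherent.K47.DevTwo
open Groth.Agent.CycB.StalkExact

variable {X Y : Scheme.{u}}

theorem stalkLin_zero (M N : X.Modules) (x : X) (z : M.presheaf.stalk x) :
    stalkLin (0 : M ⟶ N) x z = 0 := by
  have h1 : (stalkFun x).map (0 : M ⟶ N) = 0 := Functor.map_zero _ _ _
  rw [coe_stalkLin, h1]
  rfl

theorem stalkLin_add {M N : X.Modules} (f g : M ⟶ N) (x : X) (z : M.presheaf.stalk x) :
    stalkLin (f + g) x z = stalkLin f x z + stalkLin g x z := by
  have h1 : (stalkFun x).map (f + g) = (stalkFun x).map f + (stalkFun x).map g := Functor.map_add _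
  rw [coe_stalkLin, h1]
  rfl

theorem stalkLin_sum {M N : X.Modules} {ι : Type*} (J : Finset ι) (φ : ι → (M ⟶ N)) (x : X)
    (z : M.presheaf.stalk x) : stalkLin (∑ i ∈ J, φ i) x z = ∑ i ∈ J, stalkLin (φ i) x z := by
  classical
  induction J using Finset.induction_on with
  | empty => rw [Finset.sum_empty, Finset.sum_empty, stalkLin_zero]
  | insert i J hi ih => rw [Finset.sum_insert hi, Finset.sum_insert hi, ← ih, stalkLin_add]

/-- The stalk of a finite power of a module. -/
noncomputable def stalkSigmaEquiv (M : X.Modules) (n : ℕ) (x : X) :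
    (∐ fun _ : Fin n => M).presheaf.stalk x ≃ₗ[X.presheaf.stalk x] (Fin n → M.presheaf.stalk x) where
  toFun z k := stalkLin (proj M k) x z
  map_add' z z' := by ext k; exact map_add _ _ _
  map_smul' a z := by ext k; exact LinearMap.map_smul _ _ _
  invFun v := ∑ k : Fin n, stalkLin (Sigma.ι (fun _ : Fin n => M) k) x (v k)
  left_inv z := by
    have h1 : stalkLin (𝟙 (∐ fun _ : Fin n => M)) x z = z := by rw [stalkLin_id]; rfl
    conv_rhs => rw [← h1, ← sum_proj M, stalkLin_sum]
    refine Finset.sum_congr rfl fun k _ => ?_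
    rw [stalkLin_comp]
    rfl
  right_inv v := by
    ext k
    change stalkLin (proj M k) x (∑ j : Fin n, stalkLin (Sigma.ι (fun _ : Fin n => M) j) x (v j)) = v k
    rw [map_sum, Finset.sum_eq_single k]
    · have h1 : Sigma.ι (fun _ : Fin n => M) k ≫ proj M k = 𝟙 M :=
        (Sigma.ι_desc _ _).trans (if_pos rfl)
      rw [← LinearMap.comp_apply, ← stalkLin_comp, h1, stalkLin_id]
      rfl
    · intro j _ hj
      have h1 : Sigma.ι (fun _ : Fin n => M) j ≫ proj M k = 0 :=
        (Sigma.ι_desc _ _).trans (if_neg hj)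
      rw [← LinearMap.comp_apply, ← stalkLin_comp, h1]
      exact stalkLin_zero _ _ _ _
    · intro h
      exact absurd (Finset.mem_univ k) h

/-- A linear map of stalks extends to a morphism near the point. -/
theorem exists_hom_nhd [IsLocallyNoetherian X] {M N : X.Modules} (hM : Coh.IsCoh M) (x : X)
    (ψ : M.presheaf.stalk x →ₗ[X.presheaf.stalk x] N.presheaf.stalk x) :
    ∃ (U : X.Opens) (hx : x ∈ U) (φ : (restrictFunctor U.ι).obj M ⟶ (restrictFunctor U.ι).obj N),
      (restrictStalkNatIso U.ι (⟨x, hx⟩ : U)).inv.app M ≫ (stalkF U (⟨x, hx⟩ : U)).map φ ≫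
        (restrictStalkNatIso U.ι (⟨x, hx⟩ : U)).hom.app N = AddCommGrpCat.ofHom ψ.toAddMonoidHom := by
  obtain ⟨U, hx, s, hs⟩ := Groth.Agent.Coherent.K47.HomExtend.exists_extend hM x ψ
  refine ⟨U, hx, Groth.Agent.Coherent.K47.ToRestrict.toRestrict U.ι s U.opensRange_ι.le, ?_⟩
  have := Groth.Agent.Coherent.K47.HomExtend.stalk_toRestrict x hx s
  rw [hs] at this
  exact this

theorem isIso_rs_hom {N : X.Modules} {U : X.Opens} (y : U) :
    IsIso ((restrictStalkNatIso U.ι y).hom.app N) :=
  inferInstanceAs (IsIso ((restrictStalkNatIso U.ι y).app N).hom)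

theorem isIso_rs_inv {N : X.Modules} {U : X.Opens} (y : U) :
    IsIso ((restrictStalkNatIso U.ι y).inv.app N) :=
  inferInstanceAs (IsIso ((restrictStalkNatIso U.ι y).app N).inv)

/-- Conversely the stalk at `x ∈ U` of a morphism with known restriction to `U`. -/
theorem stalk_of_restrict {M N : X.Modules} {U : X.Opens} {x : X} (hx : x ∈ U) (φ : M ⟶ N) :
    (restrictStalkNatIso U.ι (⟨x, hx⟩ : U)).inv.app M ≫
      (stalkF U (⟨x, hx⟩ : U)).map ((restrictFunctor U.ι).map φ) ≫
        (restrictStalkNatIso U.ι (⟨x, hx⟩ : U)).hom.app N = (stalkF X x).map φ := by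
  refine (Iso.inv_comp_eq ((restrictStalkNatIso U.ι (⟨x, hx⟩ : U)).app M)).2 ?_
  exact (restrictStalkNatIso U.ι (⟨x, hx⟩ : U)).hom.naturality φ

/-- A morphism of stalks which is an isomorphism gives a morphism near `x` whose stalk is an isomorphism. -/
theorem exists_isIso_nhd [IsLocallyNoetherian X] {M N : X.Modules} (hM : Coh.IsCoh M) (x : X)
    (ψ : M.presheaf.stalk x ≃ₗ[X.presheaf.stalk x] N.presheaf.stalk x) :
    ∃ (U : X.Opens) (hx : x ∈ U) (φ : (restrictFunctor U.ι).obj M ⟶ (restrictFunctor U.ι).obj N),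
      IsIso ((stalkF U (⟨x, hx⟩ : U)).map φ) := by
  obtain ⟨U, hx, φ, hφ⟩ := exists_hom_nhd hM x ψ.toLinearMap
  refine ⟨U, hx, φ, ?_⟩
  have i1 := isIso_rs_hom (N := N) (⟨x, hx⟩ : U)
  have i2 := isIso_rs_inv (N := M) (⟨x, hx⟩ : U)
  have h1 : IsIso (AddCommGrpCat.ofHom ψ.toLinearMap.toAddMonoidHom :
      AddCommGrpCat.of (M.presheaf.stalk x) ⟶ AddCommGrpCat.of (N.presheaf.stalk x)) := by
    have h2 : Mono (AddCommGrpCat.ofHom ψ.toLinearMap.toAddMonoidHom :
      AddCommGrpCat.of (M.presheaf.stalk x) ⟶ AddCommGrpCat.of (N.presheaf.stalk x)) :=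
      (AddCommGrpCat.mono_iff_injective _).2 ψ.injective
    have h3 : Epi (AddCommGrpCat.ofHom ψ.toLinearMap.toAddMonoidHom :
      AddCommGrpCat.of (M.presheaf.stalk x) ⟶ AddCommGrpCat.of (N.presheaf.stalk x)) :=
      (AddCommGrpCat.epi_iff_surjective _).2 ψ.surjective
    exact isIso_of_mono_of_epi _
  have h2 : IsIso ((restrictStalkNatIso U.ι (⟨x, hx⟩ : U)).inv.app M ≫ (stalkF U (⟨x, hx⟩ : U)).map φ ≫
      (restrictStalkNatIso U.ι (⟨x, hx⟩ : U)).hom.app N) := by
    rw [hφ]; exact h1
  have h3 : IsIso ((stalkF U (⟨x, hx⟩ : U)).map φ ≫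
      (restrictStalkNatIso U.ι (⟨x, hx⟩ : U)).hom.app N) :=
    IsIso.of_isIso_comp_left ((restrictStalkNatIso U.ι (⟨x, hx⟩ : U)).inv.app M) _
  exact @IsIso.of_isIso_comp_right _ _ _ _ _ _ _ i1 h3

/-- **Extension to `I^n M`.** `M` coherent, `N` quasi-coherent on a Noetherian scheme, `M_x ≅ N_x`: there are an
ideal `I` with `x ∉ V(I)` and `I · M ⟶ N` which is an isomorphism at `x`. -/
theorem exists_idealMul_hom [IsNoetherian X] {M N : X.Modules} (hM : Coh.IsCoh M) (hN : Coh.IsQCoh N) (x : X)
    (ψ : M.presheaf.stalk x ≃ₗ[X.presheaf.stalk x] N.presheaf.stalk x) :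
    ∃ (I : X.IdealSheafData) (β : (Dual3.idealMul I).obj M ⟶ N), x ∉ I.support ∧
      IsIso ((stalkF X x).map β) := by
  obtain ⟨U, hx, φ, hφ⟩ := exists_isIso_nhd hM x ψ
  obtain ⟨I, hI⟩ := exists_ideal_compl U
  obtain ⟨n, β, hβ⟩ := Groth.Agent.Coherent.K47.DeligneHom.exists_extend I U.ι
    (by rw [Scheme.Opens.range_ι]; exact hI) hN hM φ
  have hd := disjoint_support_pow I U hI n
  refine ⟨I ^ n, β, fun h => Set.disjoint_left.1 hd h hx, ?_⟩
  have h1 : IsIso ((restrictFunctor U.ι).map (Dual3.idealMulι (I ^ n) M)) :=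
    isIso_restrict_idealMulι _ U.ι (by rw [Scheme.Opens.range_ι]; exact hd) hM.1
  rw [← stalk_of_restrict hx β, hβ]
  have h2 : IsIso ((stalkF U (⟨x, hx⟩ : U)).map
      ((restrictFunctor U.ι).map (Dual3.idealMulι (I ^ n) M) ≫ φ)) := by
    rw [Functor.map_comp]; infer_instance
  have i1 := isIso_rs_hom (N := N) (⟨x, hx⟩ : U)
  have i2 := isIso_rs_inv (N := (Dual3.idealMul (I ^ n)).obj M) (⟨x, hx⟩ : U)
  exact IsIso.comp_isIso' i2 (IsIso.comp_isIso' h2 i1)

/-- Linear equivalence of generic stalks from equality of dimensions. -/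
theorem exists_linearEquiv [IsIntegral Y] [IsLocallyNoetherian Y] {M N : Y.Modules} (hM : Coh.IsCoh M)
    (hN : Coh.IsCoh N)
    (h : Module.finrank (Y.presheaf.stalk (genericPoint Y)) (M.presheaf.stalk (genericPoint Y)) =
      Module.finrank (Y.presheaf.stalk (genericPoint Y)) (N.presheaf.stalk (genericPoint Y))) :
    Nonempty (M.presheaf.stalk (genericPoint Y) ≃ₗ[Y.presheaf.stalk (genericPoint Y)]
      N.presheaf.stalk (genericPoint Y)) := by
  let _ : Field (Y.presheaf.stalk (genericPoint Y)) := inferInstanceAs (Field Y.functionField)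
  have h1 := Groth.Agent.Divis.StalkMod.finite_stalk hM (genericPoint Y)
  have h2 := Groth.Agent.Divis.StalkMod.finite_stalk hN (genericPoint Y)
  exact ⟨LinearEquiv.ofFinrankEq _ _ h⟩

theorem finrank_sigma [IsIntegral Y] [IsLocallyNoetherian Y] {M : Y.Modules} (hM : Coh.IsCoh M) (n : ℕ) :
    Module.finrank (Y.presheaf.stalk (genericPoint Y))
      ((∐ fun _ : Fin n => M).presheaf.stalk (genericPoint Y)) =
      n * Module.finrank (Y.presheaf.stalk (genericPoint Y)) (M.presheaf.stalk (genericPoint Y)) := by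
  let _ : Field (Y.presheaf.stalk (genericPoint Y)) := inferInstanceAs (Field Y.functionField)
  have h1 := Groth.Agent.Divis.StalkMod.finite_stalk hM (genericPoint Y)
  rw [LinearEquiv.finrank_eq (stalkSigmaEquiv M n (genericPoint Y)), Module.finrank_pi_fintype]
  simp

theorem nontrivial_stalk_push_structure [IsIntegral Y] (f : X ⟶ Y) [Surjective f] :
    Nontrivial (((pushforward f).obj (Coh.structureModule X)).presheaf.stalk (genericPoint Y)) := by
  by_contra h
  rw [not_nontrivial_iff_subsingleton] at h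
  let one : Γ((pushforward f).obj (Coh.structureModule X), (⊤ : Y.Opens)) := (1 : Γ(X, f ⁻¹ᵁ ⊤))
  have h1 : ((pushforward f).obj (Coh.structureModule X)).presheaf.germ ⊤ (genericPoint Y) trivial one =
      ((pushforward f).obj (Coh.structureModule X)).presheaf.germ ⊤ (genericPoint Y) trivial 0 :=
    Subsingleton.elim _ _
  obtain ⟨W, hW, i₁, i₂, h5⟩ := TopCat.Presheaf.germ_eq _ _ _ _ _ _ h1
  rw [map_zero] at h5
  have h6 : X.presheaf.map ((Opens.map f.base).map i₁).op (1 : Γ(X, f ⁻¹ᵁ ⊤)) = 0 := h5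
  rw [map_one] at h6
  obtain ⟨x, hx⟩ := f.surjective (genericPoint Y)
  have hne : Nonempty (f ⁻¹ᵁ W : X.Opens) := ⟨⟨x, by
    change f x ∈ W
    rw [hx]; exact hW⟩⟩
  have := congrArg (X.presheaf.germ (f ⁻¹ᵁ W) x (by change f x ∈ W; rw [hx]; exact hW)) h6
  rw [map_zero, map_one] at this
  exact one_ne_zero this

/-- `f_* G ⟶ F^r`, an isomorphism at the generic point. -/
theorem exists_beta [IsIntegral X] [IsNoetherian X] [IsIntegral Y] [IsNoetherian Y]
    (f : X ⟶ Y) [IsFinite f] [Surjective f] (F : Y.Modules) (hF : Coh.IsCoh F) :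
    ∃ (r : ℕ) (G : X.Modules) (β : (pushforward f).obj G ⟶ ∐ fun _ : Fin r => F),
      0 < r ∧ Coh.IsCoh G ∧ IsIso ((stalkF Y (genericPoint Y)).map β) := by
  let _ : Field (Y.presheaf.stalk (genericPoint Y)) := inferInstanceAs (Field Y.functionField)
  let s := Module.finrank (Y.presheaf.stalk (genericPoint Y)) (F.presheaf.stalk (genericPoint Y))
  let O := (pushforward f).obj (Coh.structureModule X)
  have hO : Coh.IsCoh O := isCoh_push f (isCoh_structure X)
  let r := Module.finrank (Y.presheaf.stalk (genericPoint Y)) (O.presheaf.stalk (genericPoint Y))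
  have hr : 0 < r := by
    have h1 := Groth.Agent.Divis.StalkMod.finite_stalk hO (genericPoint Y)
    have h2 : Nontrivial (O.presheaf.stalk (genericPoint Y)) := nontrivial_stalk_push_structure f
    exact Module.finrank_pos
  let G₀ := FlatMod.freeMod X s
  have hG₀ : Coh.IsCoh G₀ := CycB.CohProp.isCoh_finite_coproduct _ fun _ => isCoh_structure X
  have hpG₀ : Coh.IsCoh ((pushforward f).obj G₀) := isCoh_push f hG₀
  have hFr : Coh.IsCoh (∐ fun _ : Fin r => F) := CycB.CohProp.isCoh_finite_coproduct _ fun _ => hF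
  obtain ⟨ψ⟩ := exists_linearEquiv hpG₀ hFr (by
    rw [finrank_sigma hF, LinearEquiv.finrank_eq (stalkLinEquiv
      (PreservesCoproduct.iso (pushforward f) (fun _ : Fin s => Coh.structureModule X)) (genericPoint Y))]
    have h1 : Coh.IsCoh O := hO
    refine (finrank_sigma h1 s).trans (mul_comm s r))
  obtain ⟨I, β₀, -, hβ₀⟩ := exists_idealMul_hom hpG₀ hFr.1 (genericPoint Y) ψ
  obtain ⟨e, -⟩ := Groth.Agent.Coherent.K47.IdealPush.exists_iso f G₀ hG₀.1 I
  refine ⟨r, (Dual3.idealMul (I.comap f)).obj G₀, e.inv ≫ β₀, hr, isCoh_obj _ hG₀, ?_⟩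
  rw [Functor.map_comp]
  infer_instance

/-- The stalk of the structure module at the generic point is one-dimensional. -/
theorem finrank_structure (Y : Scheme.{u}) [IsIntegral Y] :
    Module.finrank (Y.presheaf.stalk (genericPoint Y))
      ((Coh.structureModule Y).presheaf.stalk (genericPoint Y)) = 1 := by
  let _ : Field (Y.presheaf.stalk (genericPoint Y)) := inferInstanceAs (Field Y.functionField)
  have hb := Groth.Agent.CohqB.DevSimple.germ_bijective_of_isGen
    (Groth.Agent.Fdesc.LocGen.isGen_one (X := Y) ⊤) (genericPoint Y) trivial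
  let e : (Y.presheaf.stalk (genericPoint Y)) ≃ₗ[Y.presheaf.stalk (genericPoint Y)]
      (Coh.structureModule Y).presheaf.stalk (genericPoint Y) :=
    LinearEquiv.ofBijective (LinearMap.toSpanSingleton _ _ _) hb
  rw [← LinearEquiv.finrank_eq e, Module.finrank_self]

/-- Finitely many germs come from sections over a common neighbourhood. -/
theorem exists_common_nhd {M : Y.Modules} (y : Y) {n : ℕ} (b : Fin n → M.presheaf.stalk y) :
    ∃ (V : Y.Opens) (hy : y ∈ V) (x : Fin n → Γ(M, V)), ∀ k, M.presheaf.germ V y hy (x k) = b k := by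
  have h : ∀ k, ∃ (V : Y.Opens) (hy : y ∈ V) (x : Γ(M, V)), M.presheaf.germ V y hy x = b k :=
    fun k => M.presheaf.exists_germ_eq (b k)
  choose V hy x hx using h
  let W : Y.Opens := ⟨⋂ k, (V k : Set Y), isOpen_iInter_of_finite fun k => (V k).2⟩
  have hW : y ∈ W := Set.mem_iInter.2 hy
  have hle : ∀ k, W ≤ V k := fun k => Set.iInter_subset _ k
  refine ⟨W, hW, fun k => M.presheaf.map (homOfLE (hle k)).op (x k), fun k => ?_⟩
  rw [← hx k]
  exact TopCat.Presheaf.germ_res_apply M.presheaf (homOfLE (hle k)) y hW (x k)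

/-- `O_Y^r ⟶ f_* M`, an isomorphism at the generic point. -/
theorem exists_alpha [IsIntegral X] [IsNoetherian X] [IsIntegral Y] [IsNoetherian Y]
    (f : X ⟶ Y) [IsFinite f] [Surjective f] :
    ∃ (r : ℕ) (M : X.Modules) (α : FlatMod.freeMod Y r ⟶ (pushforward f).obj M),
      0 < r ∧ Coh.IsCoh M ∧ IsIso ((stalkF Y (genericPoint Y)).map α) := by
  let _ : Field (Y.presheaf.stalk (genericPoint Y)) := inferInstanceAs (Field Y.functionField)
  let O := (pushforward f).obj (Coh.structureModule X)
  have hO : Coh.IsCoh O := isCoh_push f (isCoh_structure X)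
  have hOfin := Groth.Agent.Divis.StalkMod.finite_stalk hO (genericPoint Y)
  let r := Module.finrank (Y.presheaf.stalk (genericPoint Y)) (O.presheaf.stalk (genericPoint Y))
  have hr : 0 < r := by
    have h2 : Nontrivial (O.presheaf.stalk (genericPoint Y)) := nontrivial_stalk_push_structure f
    exact Module.finrank_pos
  let b : Module.Basis (Fin r) (Y.presheaf.stalk (genericPoint Y)) (O.presheaf.stalk (genericPoint Y)) :=
    Module.finBasis _ _
  obtain ⟨V, hV, x, hx⟩ := exists_common_nhd (genericPoint Y) (fun k => b k)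
  -- `N = j_* j^* O_X`
  let j := (f ⁻¹ᵁ V).ι
  let N : X.Modules := (Coh.push j).obj ((Coh.structureModule X).restrict j)
  have hN : Coh.IsQCoh N := isQCoh_push j (Groth.Agent.CohqB.LocalQC.isQCoh_restrict j (isCoh_structure X).1)
  let u : Coh.structureModule X ⟶ N := unitJ (f ⁻¹ᵁ V) (Coh.structureModule X)
  have hle : j ''ᵁ (j ⁻¹ᵁ (f ⁻¹ᵁ (⊤ : Y.Opens))) ≤ f ⁻¹ᵁ V := by
    rw [image_preimage_eq_inf]; exact inf_le_left
  let y : Fin r → Γ(N, f ⁻¹ᵁ (⊤ : Y.Opens)) := fun k =>
    (Coh.structureModule X).presheaf.map (homOfLE hle).op (x k)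
  obtain ⟨M, i, hi, hM, hs⟩ := Groth.Agent.Localalg.VanTors.exists_isCoh_sections N hN
    (fun _ : Fin r => f ⁻¹ᵁ (⊤ : Y.Opens)) y
  choose t ht using hs
  let tt : Fin r → Γ((pushforward f).obj M, (⊤ : Y.Opens)) := t
  let α : FlatMod.freeMod Y r ⟶ (pushforward f).obj M :=
    Sigma.desc fun k => Groth.Agent.Fdesc.LocGen.homOf (tt k)
  refine ⟨r, M, α, hr, hM, ?_⟩
  -- stalks
  have hu : IsIso ((restrictFunctor V.ι).map ((pushforward f).map u)) := by
    refine isIso_restrict_push f u V ?_
    exact isIso_restrict_unitJ _ _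
  have hus : IsIso ((stalkF Y (genericPoint Y)).map ((pushforward f).map u)) :=
    isIso_stalk_of_isIso_restrict V _ _ hV
  have hmi : Mono ((pushforward f).map i) := inferInstance
  have hT : genericPoint Y ∈ (⊤ : Y.Opens) := trivial
  let e : Fin r → (FlatMod.freeMod Y r).presheaf.stalk (genericPoint Y) := fun k =>
    stalkLin (Sigma.ι (fun _ : Fin r => Coh.structureModule Y) k) (genericPoint Y)
      ((Coh.structureModule Y).presheaf.germ ⊤ (genericPoint Y) hT (Groth.Agent.Fdesc.LocGen.one ⊤))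
  have key : ∀ k, stalkLin ((pushforward f).map i) (genericPoint Y) (stalkLin α (genericPoint Y) (e k)) =
      stalkLin ((pushforward f).map u) (genericPoint Y) (b k) := by
    intro k
    have h1 : stalkLin α (genericPoint Y) (e k) =
        ((pushforward f).obj M).presheaf.germ ⊤ (genericPoint Y) hT (tt k) := by
      have h2 : Sigma.ι (fun _ : Fin r => Coh.structureModule Y) k ≫ α =
        Groth.Agent.Fdesc.LocGen.homOf (tt k) := Sigma.ι_desc _ _
      change stalkLin α (genericPoint Y) (stalkLin (Sigma.ι (fun _ : Fin r => Coh.structureModule Y) k)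
        (genericPoint Y) _) = _
      rw [← LinearMap.comp_apply, ← stalkLin_comp, h2, stalkLin_germ]
      congr 1
      have h3 := Groth.Agent.Fdesc.LocGen.sec_homOf (tt k) ⊤
      refine Eq.trans h3 ?_
      exact Groth.Agent.Fdesc.QCohStalk.map_self _ _ _
    rw [h1, stalkLin_germ]
    have h4 : ((pushforward f).map i).app ⊤ (tt k) = y k := ht k
    rw [h4, ← hx k, stalkLin_germ]
    -- both are restrictions of `x k`
    have h5 := TopCat.Presheaf.germ_res_apply ((pushforward f).obj N).presheaf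
      (homOfLE (le_top : V ≤ ⊤)) (genericPoint Y) hV (y k)
    refine h5.symm.trans ?_
    congr 1
    have h6 : ∀ (A B C D : X.Opens) (h1 : B ≤ A) (h2 : C ≤ B) (h3 : D ≤ A) (h4 : C ≤ D)
        (z : Γ(Coh.structureModule X, A)),
        (Coh.structureModule X).presheaf.map (homOfLE h2).op
          ((Coh.structureModule X).presheaf.map (homOfLE h1).op z) =
        (Coh.structureModule X).presheaf.map (homOfLE h4).op
          ((Coh.structureModule X).presheaf.map (homOfLE h3).op z) := by
      intro A B C D h1 h2 h3 h4 z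
      rw [Groth.Agent.Fdesc.QCohStalk.map_map, Groth.Agent.Fdesc.QCohStalk.map_map]
    have h7 : j ''ᵁ (j ⁻¹ᵁ (f ⁻¹ᵁ V)) ≤ f ⁻¹ᵁ V := by
      rw [image_preimage_eq_inf]; exact inf_le_left
    have h8 : j ''ᵁ (j ⁻¹ᵁ (f ⁻¹ᵁ V)) ≤ j ''ᵁ (j ⁻¹ᵁ (f ⁻¹ᵁ (⊤ : Y.Opens))) := by
      rw [image_preimage_eq_inf, image_preimage_eq_inf]
      exact inf_le_inf_left _ (fun z _ => trivial)
    exact (Groth.Agent.Fdesc.QCohStalk.map_map (M := Coh.structureModule X) hle h8 (x k))
  -- conclusion
  have hfr : Module.finrank (Y.presheaf.stalk (genericPoint Y))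
      ((FlatMod.freeMod Y r).presheaf.stalk (genericPoint Y)) = r := by
    refine (finrank_sigma (isCoh_structure Y) r).trans ?_
    rw [finrank_structure, mul_one]
  let ρ := (asIso ((stalkF Y (genericPoint Y)).map ((pushforward f).map u)))
  have hbu : Function.Bijective (stalkLin ((pushforward f).map u) (genericPoint Y)) :=
    (ConcreteCategory.isIso_iff_bijective ((stalkF Y (genericPoint Y)).map ((pushforward f).map u))).1 hus
  let U : O.presheaf.stalk (genericPoint Y) ≃ₗ[Y.presheaf.stalk (genericPoint Y)]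
      ((pushforward f).obj N).presheaf.stalk (genericPoint Y) :=
    LinearEquiv.ofBijective (stalkLin ((pushforward f).map u) (genericPoint Y)) hbu
  let T : (FlatMod.freeMod Y r).presheaf.stalk (genericPoint Y) →ₗ[Y.presheaf.stalk (genericPoint Y)]
      O.presheaf.stalk (genericPoint Y) :=
    U.symm.toLinearMap ∘ₗ (stalkLin ((pushforward f).map i) (genericPoint Y)) ∘ₗ
      (stalkLin α (genericPoint Y))
  have hTe : ∀ k, T (e k) = b k := fun k => by
    change U.symm _ = _
    rw [LinearEquiv.symm_apply_eq]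
    exact key k
  have hTs : Function.Surjective T := by
    rw [← LinearMap.range_eq_top, eq_top_iff, ← b.span_eq, Submodule.span_le]
    rintro _ ⟨k, rfl⟩
    exact ⟨e k, hTe k⟩
  have hfin := Groth.Agent.Divis.StalkMod.finite_stalk (M := FlatMod.freeMod Y r)
    (CycB.CohProp.isCoh_finite_coproduct _ fun _ => isCoh_structure Y) (genericPoint Y)
  have hTi : Function.Injective T :=
    (LinearMap.injective_iff_surjective_of_finrank_eq_finrank (hfr.trans rfl)).2 hTs
  have hcomp : Function.Bijective ((stalkLin ((pushforward f).map i) (genericPoint Y)) ∘ₗ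
      (stalkLin α (genericPoint Y))) := by
    have h1 : (stalkLin ((pushforward f).map i) (genericPoint Y)) ∘ₗ (stalkLin α (genericPoint Y)) =
        U.toLinearMap ∘ₗ T := by
      ext z
      exact (U.apply_symm_apply _).symm
    rw [h1]
    exact U.bijective.comp ⟨hTi, hTs⟩
  have hinj : Function.Injective (stalkLin ((pushforward f).map i) (genericPoint Y)) :=
    stalkLin_injective _ _
  have hα : Function.Bijective (stalkLin α (genericPoint Y)) := by
    constructor
    · exact Function.Injective.of_comp hcomp.1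
    · intro z
      obtain ⟨w, hw⟩ := hcomp.2 (stalkLin ((pushforward f).map i) (genericPoint Y) z)
      exact ⟨w, hinj hw⟩
  exact (ConcreteCategory.isIso_iff_bijective ((stalkF Y (genericPoint Y)).map α)).2 hα

end Groth.Agent.Coherent.K47.GenIso
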