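import Groth.Agent.Sga2.PnHomAdj
import Groth.Agent.Htor.H255.StalkBij
import Groth.Agent.CohqB.HomSheafCoh
import Groth.Agent.CycB.StalkExact

/-!
# Stalks of the sheaf Hom of coherent modules
-/

set_option autoImplicit false
universe u

open CategoryTheory CategoryTheory.Limits AlgebraicGeometry Opposite

namespace Groth.Agent.Coherent.K47.SheafHomStalk

open Groth.Agent.CohqB.HomSheaf Groth.Agent.Htor.H255.HomStalk Groth.Agent.Htor.H255.StalkBij

variable {X : Scheme.{u}} [IsLocallyNoetherian X] {F : X.Modules} (hF : Coh.IsCoh F) (G : X.Modules)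

include hF

theorem bijective_homStalk_coh (x : X) : Function.Bijective (homStalk F G x) := by
  obtain ⟨_, ⟨U, hU, rfl⟩, hxU, -⟩ :=
    X.isBasis_affineOpens.exists_subset_of_mem_open (Set.mem_univ x) isOpen_univ
  have := finitePresentation_of_isCoh hF hU
  exact bijective_homStalk hF.1 hU x hxU

/-- The stalk of `Hom(F, G)` at `x` is `Hom(F_x, G_x)`, for coherent `F`. -/
noncomputable def stalkHomEquiv (x : X) : (homSheaf F G).presheaf.stalk x ≃ₗ[X.presheaf.stalk x]
    (F.presheaf.stalk x →ₗ[X.presheaf.stalk x] G.presheaf.stalk x) :=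
  LinearEquiv.ofBijective (homStalk F G x) (bijective_homStalk_coh hF G x)

/-- The stalk of the chosen sheaf Hom at `x` is `Hom(F_x, G_x)`, for coherent `F`. -/
noncomputable def stalkSheafHomEquiv [DCoh.HasSheafHom F] (x : X) :
    ((DCoh.sheafHom F).obj G).presheaf.stalk x ≃ₗ[X.presheaf.stalk x]
      (F.presheaf.stalk x →ₗ[X.presheaf.stalk x] G.presheaf.stalk x) :=
  (Groth.Agent.CycB.StalkExact.stalkLinEquiv
    ((Groth.Agent.Sga2.PnHomAdj.sheafHomIso F).app G) x).trans (stalkHomEquiv hF G x)

end Groth.Agent.Coherent.K47.SheafHomStalk
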