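import Groth.Agent.Coherent.K47.ExtLES
import Groth.Agent.Coherent.K47.SheafHomStalk
import Groth.Agent.Coherent.K47.GenIso
import Groth.Agent.PerfA.GenOpen
import Groth.Agent.PerfC.FlatExact

/-!
# `Hom(M, -)` for `M` coherent with projective stalks

* `homStalk_naturality`, `homStalk_homPre`: the stalk map of `Hom(M, N)` is natural in both variables;
* `preservesFiniteColimits_homFunctor`: `Hom(M, -)` is exact if `M` is coherent with projective stalks;
* `isZero_ext`: hence `Ext^{n+1}(M, G) = 0`.
-/

set_option autoImplicit false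
universe u

open CategoryTheory CategoryTheory.Limits AlgebraicGeometry Opposite

namespace Groth.Agent.Coherent.K47.ExtProj

open Groth.Agent.CohqB.HomSheaf Groth.Agent.Coherent.K47.ToRestrict Groth.Agent.Coherent.K47.HomFlasque
open Groth.Agent.Dcoh.MonClosed Groth.Agent.CycB.StalkExact Groth.Agent.Coherent.K47.ExtLES
open Groth.Agent.Htor.H255.HomStalk Groth.Agent.Htor.H255.StalkBij Groth.Agent.Coherent.K47.SheafHomStalk

variable {X : Scheme.{u}} {M M' N N' : X.Modules}

/-- Shrink the open set of a germ. -/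
theorem exists_germ_le (M : X.Modules) {x : X} {U : X.Opens} (hU : x ∈ U) (m : M.presheaf.stalk x) :
    ∃ (V : X.Opens) (hV : x ∈ V) (_ : V ≤ U) (m' : Γ(M, V)), M.presheaf.germ V x hV m' = m := by
  obtain ⟨W, hW, m, rfl⟩ := M.presheaf.exists_germ_eq m
  exact ⟨W ⊓ U, ⟨hW, hU⟩, inf_le_right, M.presheaf.map (homOfLE inf_le_left).op m,
    germ_map M inf_le_left x ⟨hW, hU⟩ m⟩

/-- The stalk map of `Hom(M, -)` is natural. -/
theorem homStalk_naturality (φ : N ⟶ N') (x : X) (t : (homSheaf M N).presheaf.stalk x) :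
    homStalk M N' x (stalkLin (homMap M φ) x t) = (stalkLin φ x).comp (homStalk M N x t) := by
  obtain ⟨U, hU, s, rfl⟩ := (homSheaf M N).presheaf.exists_germ_eq t
  refine LinearMap.ext fun m => ?_
  obtain ⟨V, hV, hVU, m, rfl⟩ := exists_germ_le M hU m
  rw [stalkLin_germ, homStalk_germ_germ x hU _ V hV hVU, LinearMap.comp_apply,
    homStalk_germ_germ x hU _ V hV hVU, stalkLin_germ]
  rfl

/-- The stalk map of `Hom(-, N)` is natural. -/
theorem homStalk_homPre (φ : M' ⟶ M) (x : X) (t : (homSheaf M N).presheaf.stalk x) :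
    homStalk M' N x (stalkLin (homPre φ N) x t) = (homStalk M N x t).comp (stalkLin φ x) := by
  obtain ⟨U, hU, s, rfl⟩ := (homSheaf M N).presheaf.exists_germ_eq t
  refine LinearMap.ext fun m => ?_
  obtain ⟨V, hV, hVU, m, rfl⟩ := exists_germ_le M' hU m
  rw [stalkLin_germ, homStalk_germ_germ x hU _ V hV hVU, LinearMap.comp_apply, stalkLin_germ,
    homStalk_germ_germ x hU _ V hV hVU]
  rfl

theorem surjective_stalk_homMap [IsLocallyNoetherian X] (hM : Coh.IsCoh M) (φ : N ⟶ N') (x : X)
    [Module.Projective (X.presheaf.stalk x) (M.presheaf.stalk x)] (hφ : Function.Surjective (stalkLin φ x)) :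
    Function.Surjective (stalkLin (homMap M φ) x) := by
  intro t
  obtain ⟨g, hg⟩ := Module.projective_lifting_property (stalkLin φ x) (homStalk M N' x t) hφ
  obtain ⟨t', ht'⟩ := (bijective_homStalk_coh hM N x).2 g
  refine ⟨t', (bijective_homStalk_coh hM N' x).1 ?_⟩
  rw [homStalk_naturality, ht', hg]

theorem epi_homMap [IsLocallyNoetherian X] (hM : Coh.IsCoh M)
    (hP : ∀ x, Module.Projective (X.presheaf.stalk x) (M.presheaf.stalk x)) (φ : N ⟶ N') [Epi φ] :
    Epi (homMap M φ) :=
  (Groth.Agent.PerfC.FlatExact.epi_iff_stalkLin _).2 fun x =>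
    surjective_stalk_homMap hM φ x (stalkLin_surjective φ x)

/-- `Hom(M, -)` is exact if `M` is coherent with projective stalks. -/
theorem preservesFiniteColimits_homFunctor [IsLocallyNoetherian X] (hM : Coh.IsCoh M)
    (hP : ∀ x, Module.Projective (X.presheaf.stalk x) (M.presheaf.stalk x)) :
    PreservesFiniteColimits (homFunctor M) := by
  suffices h : ∀ S : ShortComplex X.Modules, S.ShortExact → (S.map (homFunctor M)).ShortExact from
    (((Functor.exact_tfae (homFunctor M)).out 0 3 rfl rfl).1 h).2
  intro S hS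
  have h1 := hS.exact
  have h2 := hS.mono_f
  have h3 := hS.epi_g
  have : Mono ((homFunctor M).map S.f) := inferInstance
  have : Epi ((homFunctor M).map S.g) := epi_homMap hM hP S.g
  exact { exact := h1.map_of_mono_of_preservesKernel (homFunctor M) inferInstance inferInstance
          mono_f := ‹_›
          epi_g := ‹_› }

/-- `Ext^{n+1}(M, G) = 0` if `M` is coherent with projective stalks. -/
theorem isZero_ext [IsLocallyNoetherian X] [HasInjectiveResolutions X.Modules] (hM : Coh.IsCoh M)
    (hP : ∀ x, Module.Projective (X.presheaf.stalk x) (M.presheaf.stalk x)) (G : X.Modules) (n : ℕ) :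
    IsZero (((homFunctor M).rightDerived (n + 1)).obj G) := by
  have := preservesFiniteColimits_homFunctor hM hP
  exact Groth.Agent.Sga4h.FunLES.isZero_rightDerived_of_exact (homFunctor M) G n

end Groth.Agent.Coherent.K47.ExtProj
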