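import Groth.Agent.CohqB.DevSplit
import Groth.Agent.CycB.CohProp
import Groth.Agent.PerfC.Supp
import Groth.Agent.S0020

/-!
# Stalk-local properties of coherent modules
-/

set_option autoImplicit false
universe u

open CategoryTheory CategoryTheory.Limits AlgebraicGeometry Opposite

namespace Groth.Agent.Coherent.K47.StalkLocal

open Groth.Agent.CohqB Groth.Agent.CohqB.DevSupport Groth.Agent.CohqB.DevSplit

variable {X : Scheme.{u}}

/-- The complement of the support of a module of finite type. -/
noncomputable def coSupp (F : X.Modules) (hF : CohB1.IsFT F) : X.Opens :=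
  ⟨(CohB1.support F)ᶜ, (Groth.Agent.S0020.result X F hF).isOpen_compl⟩

theorem mem_coSupp (F : X.Modules) (hF : CohB1.IsFT F) (x : X) :
    x ∈ coSupp F hF ↔ x ∉ CohB1.support F := Iff.rfl

theorem isZero_restrict_of_le (F : X.Modules) (U : X.Opens) (h : ∀ x ∈ U, x ∉ CohB1.support F) :
    IsZero ((Scheme.Modules.restrictFunctor U.ι).obj F) := by
  apply isZero_of_support_eq_empty
  have h1 : CohB1.support ((Scheme.Modules.restrictFunctor U.ι).obj F) = U.ι ⁻¹' CohB1.support F :=
    Groth.Agent.PerfC.Supp.support_restrict U.ι F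
  rw [h1, Set.eq_empty_iff_forall_notMem]
  intro x hx
  exact h (U.ι x) (by exact x.2) hx

theorem mono_restrict (U : X.Opens) {F G : X.Modules} (φ : G ⟶ F)
    (h : ∀ x ∈ U, x ∉ CohB1.support (kernel φ)) :
    Mono ((Scheme.Modules.restrictFunctor U.ι).map φ) := by
  have h1 := isZero_restrict_of_le (kernel φ) U h
  have h2 : IsZero (kernel ((Scheme.Modules.restrictFunctor U.ι).map φ)) :=
    h1.of_iso (PreservesKernel.iso (Scheme.Modules.restrictFunctor U.ι) φ).symm
  exact Preadditive.mono_of_isZero_kernel _ h2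

theorem epi_restrict (U : X.Opens) {F G : X.Modules} (φ : G ⟶ F)
    (h : ∀ x ∈ U, x ∉ CohB1.support (cokernel φ)) :
    Epi ((Scheme.Modules.restrictFunctor U.ι).map φ) := by
  have h1 := isZero_restrict_of_le (cokernel φ) U h
  have h2 : IsZero (cokernel ((Scheme.Modules.restrictFunctor U.ι).map φ)) :=
    h1.of_iso (PreservesCokernel.iso (Scheme.Modules.restrictFunctor U.ι) φ).symm
  exact Preadditive.epi_of_isZero_cokernel _ h2

theorem isIso_restrict (U : X.Opens) {F G : X.Modules} (φ : G ⟶ F)
    (h : ∀ x ∈ U, x ∉ CohB1.support (kernel φ)) (h' : ∀ x ∈ U, x ∉ CohB1.support (cokernel φ)) :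
    IsIso ((Scheme.Modules.restrictFunctor U.ι).map φ) := by
  have := mono_restrict U φ h
  have := epi_restrict U φ h'
  exact isIso_of_mono_of_epi _

variable [IsLocallyNoetherian X] {F G : X.Modules} (hF : Coh.IsCoh F) (hG : Coh.IsCoh G)

include hF hG

/-- A morphism of coherent modules which is injective on the stalk at `x` is injective near `x`. -/
theorem exists_mono (φ : G ⟶ F) (x : X) (h : Mono ((stalkF X x).map φ)) :
    ∃ U : X.Opens, x ∈ U ∧ Mono ((Scheme.Modules.restrictFunctor U.ι).map φ) :=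
  ⟨coSupp (kernel φ) (CycB.CohProp.isCoh_kernel φ hG hF).2, not_mem_support_kernel φ x h,
    mono_restrict _ φ fun _ hx => hx⟩

theorem exists_isIso (φ : G ⟶ F) (x : X) (h : IsIso ((stalkF X x).map φ)) :
    ∃ U : X.Opens, x ∈ U ∧ IsIso ((Scheme.Modules.restrictFunctor U.ι).map φ) :=
  ⟨coSupp (kernel φ) (CycB.CohProp.isCoh_kernel φ hG hF).2 ⊓
      coSupp (cokernel φ) (CycB.CohProp.isCoh_cokernel φ hG hF).2,
    ⟨not_mem_support_kernel φ x inferInstance, not_mem_support_cokernel φ x inferInstance⟩,
    isIso_restrict _ φ (fun _ hx => hx.1) (fun _ hx => hx.2)⟩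

end Groth.Agent.Coherent.K47.StalkLocal
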