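import Groth.Agent.Sga67.CohDevissage
import Groth.Agent.Coherent.K47.StalkLocal
import Groth.Agent.CycB.StalkExact

/-!
# The submodule of sections killed by an ideal, for coherent modules

* `exists_tor_coh`: the coherent submodule `T ⊆ M` of sections killed by `I`;
* `isIso_stalk_tor`: if `M_x` is killed by the maximal ideal and `x ∈ V(I)` then `T_x = M_x`.
-/

set_option autoImplicit false
universe u

open CategoryTheory CategoryTheory.Limits AlgebraicGeometry Opposite TopologicalSpace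
open AlgebraicGeometry.Scheme.Modules
open Groth.Agent.Sga67.CohBasic Groth.Agent.Sga67.IdealTorsion Groth.Agent.Sga67.CohLoc
open Groth.Agent.CohqB.DevSupport
open Groth.Agent.Fdesc.QCohStalk (map_smul' map_map)

namespace Groth.Agent.Coherent.K47.TorSub

variable {X : Scheme.{u}}

/-- The coherent submodule of sections killed by `I`. -/
theorem exists_tor_coh [IsNoetherian X] (I : X.IdealSheafData) (M : X.Modules) (hM : Coh.IsCoh M) :
    ∃ (T : X.Modules) (i : T ⟶ M), Mono i ∧ Coh.IsCoh T ∧ ClSub.KilledByIdeal I T ∧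
      ∀ (W : X.Opens) (m : Γ(M, W)), KilledSec I M W m → ∃ t, i.app W t = m := by
  obtain ⟨J, _, V, hV⟩ := exists_finite_affine_cover X
  have hfg : ∀ j, (I.ideal (V j)).FG := fun j => by
    have : IsNoetherianRing Γ(X, (V j).1) := IsLocallyNoetherian.component_noetherian (V j)
    exact IsNoetherian.noetherian _
  choose S hS using hfg
  let S' : ∀ j, Set Γ(X, (V j).1) := fun j => (S j : Set Γ(X, (V j).1))
  have : ∀ j, Finite (S' j) := fun j => (S j).finite_toSet.to_subtype
  have hQ : Coh.IsQCoh (∏ᶜ torFam M V S') :=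
    isQCoh_pi _ fun j => isQCoh_push _ (Groth.Agent.PerfA.QCohSerre.isQCoh_restrict _ hM.1)
  have hT : Coh.IsCoh (tor M V S') := isCoh_kernel _ hM hQ
  exact ⟨tor M V S', kernel.ι _, inferInstance, hT, tor_killedByIdeal M V S' hV hS,
    fun W m h => exists_tor M V S' hV hS h⟩

/-- Germs of `I` at points of `V(I)` lie in the maximal ideal. -/
theorem germ_mem_maximalIdeal (I : X.IdealSheafData) {x : X} (hx : x ∈ I.support) (U : X.affineOpens)
    (hxU : x ∈ U.1) {a : Γ(X, U.1)} (ha : a ∈ I.ideal U) :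
    X.presheaf.germ U.1 x hxU a ∈ IsLocalRing.maximalIdeal (X.presheaf.stalk x) := by
  rw [Scheme.IdealSheafData.mem_support_iff_of_mem hxU, Scheme.mem_zeroLocus_iff] at hx
  have h1 := hx a ha
  rw [IsLocalRing.mem_maximalIdeal, mem_nonunits_iff]
  intro h2
  exact h1 ((X.mem_basicOpen a x hxU).2 h2)

theorem surjective_stalk_tor [IsLocallyNoetherian X] (I : X.IdealSheafData) {T M : X.Modules} (i : T ⟶ M)
    (hi : ∀ (W : X.Opens) (m : Γ(M, W)), KilledSec I M W m → ∃ t, i.app W t = m) {x : X}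
    (hx : x ∈ I.support)
    (hann : ∀ a ∈ IsLocalRing.maximalIdeal (X.presheaf.stalk x), ∀ m : ↑(M.presheaf.stalk x), a • m = 0) :
    Function.Surjective ((stalkF X x).map i) := by
  intro z
  obtain ⟨W₀, hW₀, s₀, rfl⟩ := M.presheaf.exists_germ_eq z
  obtain ⟨_, ⟨W, hW, rfl⟩, hxW, hWW⟩ :=
    X.isBasis_affineOpens.exists_subset_of_mem_open (show x ∈ (W₀ : Set X) from hW₀) W₀.2
  let s : Γ(M, W) := M.presheaf.map (homOfLE hWW).op s₀
  have hs : M.presheaf.germ W x hxW s = M.presheaf.germ W₀ x hW₀ s₀ :=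
    TopCat.Presheaf.germ_res_apply M.presheaf (homOfLE hWW) x hxW s₀
  rw [← hs]
  have hN : IsNoetherianRing Γ(X, W) := IsLocallyNoetherian.component_noetherian ⟨W, hW⟩
  obtain ⟨S, hS⟩ : (I.ideal ⟨W, hW⟩).FG := IsNoetherian.noetherian _
  have hloc : ∀ a ∈ S, ∃ (W' : X.Opens) (_ : x ∈ W') (h : W' ≤ W),
      M.presheaf.map (homOfLE h).op (a • s) = 0 := by
    intro a ha
    have h1 : a ∈ I.ideal ⟨W, hW⟩ := hS ▸ Submodule.subset_span ha
    have h2 := germ_mem_maximalIdeal I hx ⟨W, hW⟩ hxW h1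
    have h3 : M.presheaf.germ W x hxW (a • s) = 0 := by
      rw [Groth.Agent.CycB.StalkExact.germ_smul]
      exact hann _ h2 _
    have h4 : M.presheaf.germ W x hxW (a • s) = M.presheaf.germ W x hxW 0 := by
      rw [h3, map_zero]
    obtain ⟨W', hxW', i₁, i₂, h5⟩ := M.presheaf.germ_eq x hxW hxW _ _ h4
    refine ⟨W', hxW', i₁.le, ?_⟩
    rw [show (homOfLE i₁.le) = i₁ from rfl, h5, map_zero]
  choose! W' hxW' hW'W h0 using hloc
  obtain ⟨V, hxV, hVW, hV⟩ : ∃ (V : X.Opens) (_ : x ∈ V) (_ : V ≤ W), ∀ a ∈ S, V ≤ W' a := by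
    clear h0 hS
    classical
    induction S using Finset.induction_on with
    | empty => exact ⟨W, hxW, le_rfl, fun a ha => absurd ha (Finset.notMem_empty a)⟩
    | insert b S hb ih =>
      obtain ⟨V, h1, h2, h3⟩ := ih (fun a ha => hxW' a (Finset.mem_insert_of_mem ha))
        (fun a ha => hW'W a (Finset.mem_insert_of_mem ha))
      refine ⟨V ⊓ W' b, ⟨h1, hxW' b (Finset.mem_insert_self b S)⟩, inf_le_left.trans h2, fun a ha => ?_⟩
      rcases Finset.mem_insert.1 ha with rfl | ha
      · exact inf_le_right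
      · exact inf_le_left.trans (h3 a ha)
  obtain ⟨_, ⟨D, hD, rfl⟩, hxD, hDV⟩ :=
    X.isBasis_affineOpens.exists_subset_of_mem_open (show x ∈ (V : Set X) from hxV) V.2
  have hDW : D ≤ W := le_trans hDV hVW
  obtain ⟨t, ht⟩ := hi D (M.presheaf.map (homOfLE hDW).op s) (by
    refine killedSec_of_affine (W := ⟨D, hD⟩) fun a ha => ?_
    rw [← I.map_ideal (U := ⟨D, hD⟩) (V := ⟨W, hW⟩) hDW, ← hS, Ideal.map_span] at ha
    refine Submodule.span_induction
      (p := fun a _ => a • M.presheaf.map (homOfLE hDW).op s = 0) ?_ ?_ ?_ ?_ ha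
    · rintro _ ⟨b, hb, rfl⟩
      have h1 := h0 b hb
      have h2 := congrArg (M.presheaf.map (homOfLE ((show D ≤ V from hDV).trans (hV b hb))).op) h1
      rw [map_zero] at h2
      rw [map_map] at h2
      rw [map_smul'] at h2
      exact h2
    · exact zero_smul _ _
    · intro x y _ _ hx hy
      rw [add_smul, hx, hy, add_zero]
    · intro r x _ hx
      rw [smul_assoc, hx, smul_zero])
  refine ⟨T.presheaf.germ D x hxD t, ?_⟩
  have h6 : (stalkF X x).map i (T.presheaf.germ D x hxD t) = M.presheaf.germ D x hxD (i.app D t) :=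
    TopCat.Presheaf.stalkFunctor_map_germ_apply D x hxD _ _
  rw [h6, ht]
  exact TopCat.Presheaf.germ_res_apply M.presheaf (homOfLE hDW) x hxD s

theorem isIso_stalk_tor [IsLocallyNoetherian X] (I : X.IdealSheafData) {T M : X.Modules} (i : T ⟶ M) [Mono i]
    (hi : ∀ (W : X.Opens) (m : Γ(M, W)), KilledSec I M W m → ∃ t, i.app W t = m) {x : X}
    (hx : x ∈ I.support)
    (hann : ∀ a ∈ IsLocalRing.maximalIdeal (X.presheaf.stalk x), ∀ m : ↑(M.presheaf.stalk x), a • m = 0) :
    IsIso ((stalkF X x).map i) := by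
  have h1 : Mono ((stalkF X x).map i) := inferInstance
  have h2 : Epi ((stalkF X x).map i) :=
    (AddCommGrpCat.epi_iff_surjective _).2 (surjective_stalk_tor I i hi hx hann)
  exact isIso_of_mono_of_epi _

end Groth.Agent.Coherent.K47.TorSub
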