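import Groth.Agent.Coherent.K47.DeligneHom
import Groth.Agent.Coherent.K47.TorSub
import Groth.Agent.Divis.StalkMod
import Groth.Agent.Dcoh.ResFree
import Groth.Agent.CohqB.DevGeom
import Groth.Agent.PerfA.CohSerre

/-!
# Coherent modules on integral schemes near the generic point

* `isIso_restrict_idealMulι`: `K · M ⟶ M` is an isomorphism off `V(K)`;
* `exists_mono_ideal_pow`: a coherent module `G` on an integral Noetherian scheme contains `I^r` for a
  coherent ideal `I`, with equality near the generic point.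
-/

set_option autoImplicit false
universe u

open CategoryTheory CategoryTheory.Limits AlgebraicGeometry Opposite TopologicalSpace
open AlgebraicGeometry.Scheme.Modules
open Groth.Agent.Sga67.CohBasic
open Groth.Agent.CohqB.DevSupport

namespace Groth.Agent.Coherent.K47.GenFree

open Groth.Agent.FormalB Groth.Agent.Dual.H371.IdealMul

variable {X : Scheme.{u}}

theorem ideal_eq_top_of_disjoint (K : X.IdealSheafData) (U : X.affineOpens)
    (h : Disjoint (K.support : Set X) (U.1 : Set X)) : K.ideal U = ⊤ := by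
  by_contra hne
  obtain ⟨m, hm, hle⟩ := Ideal.exists_le_maximal _ hne
  let p : Spec Γ(X, U.1) := (⟨m, hm.isPrime⟩ : PrimeSpectrum Γ(X, U.1))
  have hx : U.2.fromSpec p ∈ U.1 := by
    have : U.2.fromSpec p ∈ Set.range U.2.fromSpec := ⟨p, rfl⟩
    rwa [U.2.range_fromSpec] at this
  refine Set.disjoint_left.1 h ?_ hx
  change U.2.fromSpec p ∈ K.support
  rw [Scheme.IdealSheafData.mem_support_iff_of_mem hx]
  rw [Scheme.mem_zeroLocus_iff]
  intro a ha hmem
  have h1 : p ∈ U.2.fromSpec ⁻¹ᵁ X.basicOpen a := hmem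
  rw [U.2.fromSpec_preimage_basicOpen] at h1
  exact h1 (hle ha)

theorem isIso_restrict_idealMulι (K : X.IdealSheafData) {U : Scheme.{u}} (j : U ⟶ X) [IsOpenImmersion j]
    (hj : Disjoint (K.support : Set X) (Set.range j)) {M : X.Modules} (hM : Coh.IsQCoh M) :
    IsIso ((restrictFunctor j).map (Dual3.idealMulι K M)) := by
  have h1 : Mono ((restrictFunctor j).map (Dual3.idealMulι K M)) := inferInstance
  have h2 : Epi ((restrictFunctor j).map (Dual3.idealMulι K M)) := by
    refine ModPowAff2.epi_of_affine_cover (Groth.Agent.CohqB.LocalQC.isQCoh_restrict j hM) _ fun x => ?_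
    obtain ⟨_, ⟨V, hV, rfl⟩, hxV, -⟩ :=
      U.isBasis_affineOpens.exists_subset_of_mem_open (Set.mem_univ x) isOpen_univ
    refine ⟨V, hxV, hV, fun s => ?_⟩
    have hV' : IsAffineOpen (j ''ᵁ V) := hV.image_of_isOpenImmersion j
    have htop : K.ideal ⟨j ''ᵁ V, hV'⟩ = ⊤ := by
      apply ideal_eq_top_of_disjoint
      refine hj.mono_right ?_
      rintro _ ⟨y, _, rfl⟩
      exact ⟨y, rfl⟩
    obtain ⟨t, ht⟩ := (mem_iff K hM ⟨j ''ᵁ V, hV'⟩ s).2 (by
      rw [htop, Submodule.top_smul]; trivial)
    exact ⟨t, ht⟩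
  exact isIso_of_mono_of_epi _

/-- Restriction to a nonempty open of sections of the structure sheaf of an integral scheme is injective. -/
theorem eq_zero_structure [IsIntegral X] (U V : X.Opens) (hU : (U : Set X).Nonempty)
    (s : Γ(Coh.structureModule X, V))
    (h : (Coh.structureModule X).presheaf.map (homOfLE (inf_le_left : V ⊓ U ≤ V)).op s = 0) : s = 0 := by
  by_cases hV : (V : Set X).Nonempty
  · have hne : Nonempty (V ⊓ U : X.Opens) := by
      obtain ⟨x, hx⟩ := nonempty_preirreducible_inter V.2 U.2 hV hU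
      exact ⟨⟨x, hx⟩⟩
    have h1 := map_injective_of_isIntegral X (homOfLE (inf_le_left : V ⊓ U ≤ V))
    exact (injective_iff_map_eq_zero _).1 h1 s h
  · have : V = ⊥ := by
      ext x
      simp only [SetLike.mem_coe, Opens.mem_bot, iff_false]
      exact fun hx => hV ⟨x, hx⟩
    subst this
    have : Subsingleton Γ(Coh.structureModule X, (⊥ : X.Opens)) :=
      subsingleton_sections_of_support _ _ (fun x hx => absurd hx (by simp))
    exact Subsingleton.elim _ _

theorem sum_app {M N : X.Modules} {ι : Type*} (J : Finset ι) (φ : ι → (M ⟶ N)) (U : X.Opens) (m : Γ(M, U)) :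
    (∑ i ∈ J, φ i).app U m = ∑ i ∈ J, (φ i).app U m := by
  classical
  induction J using Finset.induction_on with
  | empty => simp only [Finset.sum_empty]; rfl
  | insert i J hi ih =>
    rw [Finset.sum_insert hi, Finset.sum_insert hi, ← ih]
    rfl

/-- The projections of a finite coproduct. -/
noncomputable def proj {n : ℕ} (M : X.Modules) (k : Fin n) : (∐ fun _ : Fin n => M) ⟶ M :=
  Sigma.desc fun j => if j = k then 𝟙 M else 0

theorem sum_proj {n : ℕ} (M : X.Modules) :
    ∑ k : Fin n, proj M k ≫ Sigma.ι (fun _ : Fin n => M) k = 𝟙 _ := by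
  refine Sigma.hom_ext _ _ fun j => ?_
  rw [Preadditive.comp_sum, Category.comp_id, Finset.sum_eq_single j]
  · rw [← Category.assoc, proj, Sigma.ι_desc, if_pos rfl, Category.id_comp]
  · intro k _ hk
    rw [← Category.assoc, proj, Sigma.ι_desc, if_neg (Ne.symm hk), zero_comp]
  · intro h
    exact absurd (Finset.mem_univ j) h

theorem eq_zero_of_proj {n : ℕ} {M : X.Modules} {V : X.Opens} (s : Γ((∐ fun _ : Fin n => M), V))
    (h : ∀ k, (proj M k).app V s = 0) : s = 0 := by
  have h1 : (𝟙 (∐ fun _ : Fin n => M) : _ ⟶ _).app V s = s := rfl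
  rw [← h1, ← sum_proj M, sum_app]
  refine Finset.sum_eq_zero fun k _ => ?_
  have h2 : (proj M k ≫ Sigma.ι (fun _ : Fin n => M) k).app V s =
      (Sigma.ι (fun _ : Fin n => M) k).app V ((proj M k).app V s) := rfl
  rw [h2, h k, map_zero]

theorem eq_zero_free [IsIntegral X] (U V : X.Opens) (hU : (U : Set X).Nonempty) (n : ℕ)
    (s : Γ(FlatMod.freeMod X n, V))
    (h : (FlatMod.freeMod X n).presheaf.map (homOfLE (inf_le_left : V ⊓ U ≤ V)).op s = 0) : s = 0 := by
  refine eq_zero_of_proj s fun k => ?_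
  refine eq_zero_structure U V hU _ ?_
  have h1 := ConcreteCategory.congr_hom ((proj (Coh.structureModule X) k).mapPresheaf.naturality
    (homOfLE (inf_le_left : V ⊓ U ≤ V)).op) s
  have h2 : (Coh.structureModule X).presheaf.map (homOfLE (inf_le_left : V ⊓ U ≤ V)).op
      ((proj (Coh.structureModule X) k).app V s) =
      (proj (Coh.structureModule X) k).app (V ⊓ U)
        ((FlatMod.freeMod X n).presheaf.map (homOfLE (inf_le_left : V ⊓ U ≤ V)).op s) := h1.symm
  rw [h2, h, map_zero]

/-- A morphism to a finite free module on an integral scheme vanishing on a nonempty open is zero. -/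
theorem hom_free_eq_zero [IsIntegral X] (U : X.Opens) (hU : (U : Set X).Nonempty) {n : ℕ} {T : X.Modules}
    (f : T ⟶ FlatMod.freeMod X n) (h : (restrictFunctor U.ι).map f = 0) : f = 0 := by
  refine Scheme.Modules.hom_ext _ _ fun V => ?_
  ext t
  refine eq_zero_free U V hU n _ ?_
  have h1 := ConcreteCategory.congr_hom (f.mapPresheaf.naturality
    (homOfLE (inf_le_left : V ⊓ U ≤ V)).op) t
  have h2 : (FlatMod.freeMod X n).presheaf.map (homOfLE (inf_le_left : V ⊓ U ≤ V)).op (f.app V t) =
      f.app (V ⊓ U) (T.presheaf.map (homOfLE (inf_le_left : V ⊓ U ≤ V)).op t) := h1.symm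
  rw [h2]
  have key : ∀ W : X.Opens, W ≤ U → ∀ t : Γ(T, W), f.app W t = 0 := by
    intro W hW t
    have e : U.ι ''ᵁ (U.ι ⁻¹ᵁ W) = W := by
      rw [Groth.Agent.CohqB.DevSplit.image_preimage_eq_inf, inf_eq_right]
      exact hW
    have h3 : ∀ W' : X.Opens, W' = U.ι ''ᵁ (U.ι ⁻¹ᵁ W) → ∀ t : Γ(T, W'), f.app W' t = 0 := by
      rintro _ rfl t
      exact congr(($h).app (U.ι ⁻¹ᵁ W) t)
    exact h3 W e.symm t
  exact key _ inf_le_right _

/-- **Generic structure of coherent modules.** On an integral Noetherian scheme `X`, a coherent `G`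
contains `I^r` for a coherent ideal `I`, with equality on a nonempty open. -/
theorem exists_mono_ideal_pow [IsIntegral X] [IsNoetherian X] (G : X.Modules) (hG : Coh.IsCoh G) :
    ∃ (r : ℕ) (I : X.IdealSheafData) (U : X.Opens) (ψ : (Dual3.idealMul I).obj (FlatMod.freeMod X r) ⟶ G),
      (U : Set X).Nonempty ∧ Disjoint (I.support : Set X) (U : Set X) ∧ Mono ψ ∧
      IsIso ((restrictFunctor U.ι).map ψ) := by
  have hfree : Module.Free (X.presheaf.stalk (genericPoint X)) (G.presheaf.stalk (genericPoint X)) := by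
    let _ : Field (X.presheaf.stalk (genericPoint X)) := inferInstanceAs (Field X.functionField)
    infer_instance
  obtain ⟨U, r, hU, ⟨e⟩⟩ := Groth.Agent.Divis.StalkMod.exists_free_nhd hG (genericPoint X) hfree
  let C : Closeds X := ⟨(U : Set X)ᶜ, U.2.isClosed_compl⟩
  let I₀ : X.IdealSheafData := Scheme.IdealSheafData.vanishingIdeal C
  have hI₀ : (I₀.support : Set X) = (U : Set X)ᶜ := Scheme.IdealSheafData.coe_support_vanishingIdeal C
  have hfr : Coh.IsCoh (FlatMod.freeMod X r) := Groth.Agent.PerfA.CohSerre.isCoh_freeMod r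
  let φ : (restrictFunctor U.ι).obj (FlatMod.freeMod X r) ⟶ (restrictFunctor U.ι).obj G :=
    (Groth.Agent.Dcoh.ResFree.restrictFreeMod U.ι r).hom ≫ e.inv
  obtain ⟨n, ψ, hψ⟩ := Groth.Agent.Coherent.K47.DeligneHom.exists_extend I₀ U.ι (by
    rw [Scheme.Opens.range_ι]
    change (I₀.support : Set X)ᶜ = U
    rw [hI₀, compl_compl]) hG.1 hfr φ
  have hdisj : Disjoint ((I₀ ^ n).support : Set X) (U : Set X) := by
    rcases Nat.eq_zero_or_pos n with rfl | hn
    · have h0 : ((I₀ ^ 0).support : Set X) = ∅ := by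
        rw [pow_zero, Scheme.IdealSheafData.one_eq_top, Scheme.IdealSheafData.support_top]
        rfl
      rw [h0]
      exact Set.empty_disjoint _
    · rw [Scheme.IdealSheafData.support_pow I₀ n hn.ne', hI₀]
      exact disjoint_compl_left
  have hiso : IsIso ((restrictFunctor U.ι).map (Dual3.idealMulι (I₀ ^ n) (FlatMod.freeMod X r))) :=
    isIso_restrict_idealMulι _ U.ι (by rw [Scheme.Opens.range_ι]; exact hdisj) hfr.1
  have hψi : IsIso ((restrictFunctor U.ι).map ψ) := by
    rw [hψ]
    infer_instance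
  refine ⟨r, I₀ ^ n, U, ψ, ⟨_, hU⟩, hdisj, ?_, hψi⟩
  refine Preadditive.mono_of_cancel_zero ψ fun {T} b hb => ?_
  have h1 : (restrictFunctor U.ι).map b = 0 := by
    rw [← cancel_mono ((restrictFunctor U.ι).map ψ), ← Functor.map_comp, hb, Functor.map_zero, zero_comp]
  have h2 : b ≫ Dual3.idealMulι (I₀ ^ n) (FlatMod.freeMod X r) = 0 := by
    refine hom_free_eq_zero U ⟨_, hU⟩ _ ?_
    rw [Functor.map_comp, h1, zero_comp]
  rw [← cancel_mono (Dual3.idealMulι (I₀ ^ n) (FlatMod.freeMod X r)), h2, zero_comp]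

end Groth.Agent.Coherent.K47.GenFree
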