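import Groth.Agent.Coherent.K47.ToRestrict
import Groth.Agent.PerfC.ExtZero2
import Groth.Agent.Sga2.PnHomAdj

/-!
# `Hom(F, I)` is flasque for `I` injective
-/

set_option autoImplicit false
universe u

open CategoryTheory CategoryTheory.Limits AlgebraicGeometry Opposite

namespace Groth.Agent.Coherent.K47.HomFlasque

open Groth.Agent.CohqB.HomSheaf Groth.Agent.Coherent.K47.ToRestrict

variable {X : Scheme.{u}} {F I : X.Modules}

/-- A morphism `F|_Y ⟶ I|_Y` extends to `F ⟶ I` when `I` is injective. -/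
theorem exists_extend_of_injective [Injective I] {Y : Scheme.{u}} (j : Y ⟶ X) [IsOpenImmersion j]
    (φ : (Scheme.Modules.restrictFunctor j).obj F ⟶ (Scheme.Modules.restrictFunctor j).obj I) :
    ∃ ψ : F ⟶ I, (Scheme.Modules.restrictFunctor j).map ψ = φ := by
  let c : (Groth.Agent.PerfC.ExtZero.jShriek j).obj ((Scheme.Modules.restrictFunctor j).obj F) ⟶ F :=
    (Groth.Agent.PerfC.ExtZero.adj j).counit.app F
  have hc : Mono c := Groth.Agent.PerfC.ExtZero.mono_counitApp j F
  let φ' : (Groth.Agent.PerfC.ExtZero.jShriek j).obj ((Scheme.Modules.restrictFunctor j).obj F) ⟶ I :=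
    ((Groth.Agent.PerfC.ExtZero.adj j).homEquiv _ _).symm φ
  let ψ : F ⟶ I := Injective.factorThru φ' c
  have hψ : c ≫ ψ = φ' := Injective.comp_factorThru φ' c
  refine ⟨ψ, ?_⟩
  have h1 : ((Groth.Agent.PerfC.ExtZero.adj j).homEquiv _ _) (c ≫ ψ) =
      (Scheme.Modules.restrictFunctor j).map ψ := by
    rw [Adjunction.homEquiv_naturality_right]
    have h2 : ((Groth.Agent.PerfC.ExtZero.adj j).homEquiv _ _) c = 𝟙 _ := by
      rw [← Equiv.eq_symm_apply]
      exact ((Groth.Agent.PerfC.ExtZero.adj j).homEquiv_symm_id _).symm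
    rw [h2, Category.id_comp]
  rw [← h1, hψ]
  exact Equiv.apply_symm_apply _ _

/-- Sections of `Hom(F, I)` over `U` come from morphisms `F ⟶ I` when `I` is injective. -/
theorem exists_ofHom [Injective I] (U : X.Opens) (s : Γ(homSheaf F I, U)) :
    ∃ ψ : F ⟶ I, ofHom ψ U = s := by
  obtain ⟨ψ, hψ⟩ := exists_extend_of_injective U.ι (toRestrict U.ι s U.opensRange_ι.le)
  refine ⟨ψ, sec_ext fun V hV m => ?_⟩
  rw [comp_ofHom]
  have e : U.ι ''ᵁ (U.ι ⁻¹ᵁ V) = V := by
    rw [Scheme.Hom.image_preimage_eq_opensRange_inf, Scheme.Opens.opensRange_ι, inf_eq_right]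
    exact hV
  have key : ∀ (V' : X.Opens) (hV' : V' ≤ U), V' = U.ι ''ᵁ (U.ι ⁻¹ᵁ V) → ∀ m : Γ(F, V'),
      ψ.app V' m = comp s V' hV' m := by
    rintro _ hV' rfl m
    exact congr(($hψ).app (U.ι ⁻¹ᵁ V) m)
  exact key V hV e.symm m

theorem map_surjective [Injective I] {U V : X.Opens} (h : U ≤ V) :
    Function.Surjective ((homSheaf F I).presheaf.map (homOfLE h).op) := by
  intro s
  obtain ⟨ψ, rfl⟩ := exists_ofHom U s
  exact ⟨ofHom ψ V, map_ofHom ψ h⟩

/-- `Hom(F, I)` is flasque for `I` injective. -/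
theorem map_surjective_sheafHom [DCoh.HasSheafHom F] [Injective I] {U V : X.Opens} (h : U ≤ V) :
    Function.Surjective (((DCoh.sheafHom F).obj I).presheaf.map (homOfLE h).op) := by
  intro x
  let e : (DCoh.sheafHom F).obj I ≅ homSheaf F I := (Groth.Agent.Sga2.PnHomAdj.sheafHomIso F).app I
  obtain ⟨t, ht⟩ := map_surjective (F := F) (I := I) h (e.hom.app U x)
  refine ⟨e.inv.app V t, ?_⟩
  have h1 := ConcreteCategory.congr_hom (e.inv.mapPresheaf.naturality (homOfLE h).op) t
  have h2 : ((DCoh.sheafHom F).obj I).presheaf.map (homOfLE h).op (e.inv.app V t) =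
      e.inv.app U ((homSheaf F I).presheaf.map (homOfLE h).op t) := h1.symm
  rw [h2, ht]
  exact congr(($e.hom_inv_id).app U x)

end Groth.Agent.Coherent.K47.HomFlasque
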