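import Groth.Agent.Curves.K316.DualPush
import Groth.Agent.Dual.H343.Inv

/-!
# Dual pairs in degree `d` and closed immersions

* `IsDualD d w t`: `t : H^d(w) → k` represents the dual of `H^d` on quasi-coherent modules;
* `IsDualD.nonempty_iso`: uniqueness of `w`;
* `IsDualD.push`: a submodule `j : i_* N ⟶ w` through which every map from some `i_* F` factors uniquely
  gives a dual pair on the closed subscheme.
-/

set_option autoImplicit false
universe u

open CategoryTheory CategoryTheory.Limits AlgebraicGeometry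

attribute [local instance] HasDerivedCategory.standard

namespace Groth.Agent.Coherent.K47.LinkDual

open Groth.Agent.CurvesC Groth.Agent.Curves.K316.DualPush

variable {k : Type u} [Field k] {X : Scheme.{u}} [X.Over (Spec (CommRingCat.of k))]

/-- `t` represents the dual of `H^d` on quasi-coherent modules. -/
def IsDualD (d : ℕ) (w : X.Modules) (t : HV X w d →ₗ[k] k) : Prop :=
  ∀ F : X.Modules, Coh.IsQCoh F → Function.Bijective (fun φ : F ⟶ w => t ∘ₗ HV.map k φ d)

theorem IsDualD.nonempty_iso {d : ℕ} {w w' : X.Modules} {t : HV X w d →ₗ[k] k} {t' : HV X w' d →ₗ[k] k}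
    (h : IsDualD d w t) (h' : IsDualD d w' t') (hw : Coh.IsQCoh w) (hw' : Coh.IsQCoh w') :
    Nonempty (w ≅ w') := by
  obtain ⟨φ, hφ⟩ := (h' w hw).2 t
  obtain ⟨ψ, hψ⟩ := (h w' hw').2 t'
  dsimp only at hφ hψ
  refine ⟨⟨φ, ψ, (h w hw).1 ?_, (h' w' hw').1 ?_⟩⟩
  · dsimp only
    rw [HV.map_comp, ← LinearMap.comp_assoc, hψ, hφ, HV.map_id, LinearMap.comp_id]
  · dsimp only
    rw [HV.map_comp, ← LinearMap.comp_assoc, hφ, hψ, HV.map_id, LinearMap.comp_id]

theorem exists_isDualD (k : Type u) [Field k] (X : Scheme.{u}) [X.Over (Spec (CommRingCat.of k))]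
    [DCoh.HasRpush (X ↘ Spec (CommRingCat.of k))]
    (h : DCoh.RpushPreservesQCoh (X ↘ Spec (CommRingCat.of k)))
    [DCoh.HasShriek (X ↘ Spec (CommRingCat.of k)) h]
    (OY : DCoh.DQCoh (Spec (CommRingCat.of k))) [TopologicalSpace.NoetherianSpace X] (d : ℕ)
    (hd : topologicalKrullDim X ≤ d)
    (hOY : Nonempty (OY.obj ≅ DCoh.inD (Spec (CommRingCat.of k))
      (Coh.structureModule (Spec (CommRingCat.of k))))) :
    ∃ t : HV X (DCoh.dualizingMod (X ↘ Spec (CommRingCat.of k)) h OY d) d →ₗ[k] k,
      IsDualD d (DCoh.dualizingMod (X ↘ Spec (CommRingCat.of k)) h OY d) t :=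
  DualRep.exists_form_mod k X h OY d hd hOY

section Push

variable {Z : Scheme.{u}} [Z.Over (Spec (CommRingCat.of k))] (i : Z ⟶ X) [IsClosedImmersion i]
  (hi : i ≫ (X ↘ Spec (CommRingCat.of k)) = Z ↘ Spec (CommRingCat.of k))

theorem IsDualD.push {d : ℕ} {w : X.Modules} {t : HV X w d →ₗ[k] k} (h : IsDualD d w t) {N : Z.Modules}
    (j : (Scheme.Modules.pushforward i).obj N ⟶ w)
    (hj : ∀ F : Z.Modules, Coh.IsQCoh F →
      Function.Bijective (fun φ : F ⟶ N => (Scheme.Modules.pushforward i).map φ ≫ j)) :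
    IsDualD d N (t ∘ₗ HV.map k j d ∘ₗ (hvPush i hi N d).toLinearMap) := by
  intro F hF
  have hq : Coh.IsQCoh ((Scheme.Modules.pushforward i).obj F) :=
    Ega1.QcqsPush.isQCoh_pushforward i _ hF
  have key : ∀ φ : F ⟶ N, (t ∘ₗ HV.map k j d ∘ₗ (hvPush i hi N d).toLinearMap) ∘ₗ HV.map k φ d =
      (t ∘ₗ HV.map k ((Scheme.Modules.pushforward i).map φ ≫ j) d) ∘ₗ
        (hvPush i hi F d).toLinearMap := by
    intro φ
    ext x
    simp only [LinearMap.comp_apply, LinearEquiv.coe_coe]
    rw [hvPush_map, HV.map_comp]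
    rfl
  have h1 : Function.Bijective (fun l : HV X ((Scheme.Modules.pushforward i).obj F) d →ₗ[k] k =>
      l ∘ₗ (hvPush i hi F d).toLinearMap) := by
    constructor
    · intro a b hab
      ext x
      have := LinearMap.congr_fun hab ((hvPush i hi F d).symm x)
      simpa using this
    · intro l
      refine ⟨l ∘ₗ (hvPush i hi F d).symm.toLinearMap, ?_⟩
      ext x
      simp
  have h2 := h1.comp ((h _ hq).comp (hj F hF))
  have h3 : (fun φ : F ⟶ N => (t ∘ₗ HV.map k j d ∘ₗ (hvPush i hi N d).toLinearMap) ∘ₗ HV.map k φ d) =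
      (fun l : HV X ((Scheme.Modules.pushforward i).obj F) d →ₗ[k] k =>
        l ∘ₗ (hvPush i hi F d).toLinearMap) ∘ (fun φ => t ∘ₗ HV.map k φ d) ∘
        fun φ : F ⟶ N => (Scheme.Modules.pushforward i).map φ ≫ j := by
    funext φ
    exact key φ
  rw [h3]
  exact h2

end Push

/-- A monomorphism `μ : M ⟶ w` from a module killed by `I`, through which every map from a quasi-coherent module
killed by `I` factors, gives the datum needed in `IsDualD.push` for `N = i^* M`. -/
theorem bijective_push (I : X.IdealSheafData) {M w : X.Modules} (μ : M ⟶ w) [Mono μ]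
    (hM : ClSub.KilledByIdeal I M)
    (hfac : ∀ (T : X.Modules), Coh.IsQCoh T → ClSub.KilledByIdeal I T → ∀ f : T ⟶ w, ∃ g : T ⟶ M, g ≫ μ = f) :
    ∃ j : (Scheme.Modules.pushforward I.subschemeι).obj ((Scheme.Modules.pullback I.subschemeι).obj M) ⟶ w,
      ∀ F : I.subscheme.Modules, Coh.IsQCoh F →
        Function.Bijective (fun φ : F ⟶ (Scheme.Modules.pullback I.subschemeι).obj M =>
          (Scheme.Modules.pushforward I.subschemeι).map φ ≫ j) := by
  let i := I.subschemeι
  let adj := Scheme.Modules.pullbackPushforwardAdjunction i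
  have h1 : IsIso (adj.unit.app M) := FormalB.TrKQuot.isIso_kπ I hM
  refine ⟨inv (adj.unit.app M) ≫ μ, fun F hF => ?_⟩
  have hq : Coh.IsQCoh ((Scheme.Modules.pushforward i).obj F) :=
    Ega1.QcqsPush.isQCoh_pushforward i _ hF
  have hff := FormalB.TrKQuot.faithful_pushforward i
  have hm : Mono (inv (adj.unit.app M) ≫ μ) := mono_comp _ _
  have hc : IsIso (adj.counit.app F) := FormalB.TrKQuot.isIso_counit I F
  constructor
  · intro φ ψ h
    dsimp only at h
    have h2 := (cancel_mono (inv (adj.unit.app M) ≫ μ)).1 h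
    exact (Scheme.Modules.pushforward i).map_injective h2
  · intro f
    obtain ⟨g, hg⟩ := hfac _ hq (FormalB.TrKQuot.killed_pushforward I F) f
    refine ⟨inv (adj.counit.app F) ≫ (Scheme.Modules.pullback i).map g, ?_⟩
    dsimp only
    have h3 : adj.unit.app ((Scheme.Modules.pushforward i).obj F) ≫
        (Scheme.Modules.pushforward i).map (adj.counit.app F) = 𝟙 _ := adj.right_triangle_components F
    have h4 : (Scheme.Modules.pushforward i).map (inv (adj.counit.app F)) =
        adj.unit.app ((Scheme.Modules.pushforward i).obj F) := by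
      rw [Functor.map_inv]
      exact IsIso.inv_eq_of_inv_hom_id h3
    have h5 : adj.unit.app ((Scheme.Modules.pushforward i).obj F) ≫
        (Scheme.Modules.pushforward i).map ((Scheme.Modules.pullback i).map g) = g ≫ adj.unit.app M :=
      (adj.unit.naturality g).symm
    rw [Functor.map_comp, h4]
    refine (Category.assoc _ _ _).trans ?_
    refine (Category.assoc _ _ _).symm.trans ?_
    refine (congrArg (fun q => q ≫ (inv (adj.unit.app M) ≫ μ)) h5).trans ?_
    rw [Category.assoc, IsIso.hom_inv_id_assoc]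
    exact hg

end Groth.Agent.Coherent.K47.LinkDual
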