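import Groth.Agent.Dual.H343.Setup
import Groth.Agent.Dual.H371.IdealMul
import Groth.Agent.Ega2.TensGen
import Groth.Agent.Fdesc.LocGen
import Groth.Agent.PerfB.TensInv
import Groth.Agent.PerfA.CohSerre
import Groth.Agent.Ega3B.PicTwist

/-!
# `I_W ⊗ w` for `I_W = (0 : I_X)` and `w` invertible
-/

set_option autoImplicit false
universe u

open CategoryTheory CategoryTheory.Limits AlgebraicGeometry Opposite MonoidalCategory
open scoped Groth.Agent.Dcoh.MonCat

namespace Groth.Agent.Coherent.K47.LinkMod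

open Groth.Agent.Dual.H343.Setup Groth.Agent.Dcoh.MonTm Groth.Agent.FormalB.TrKQuot
open Groth.Agent.Dual.H371.IdealMul Groth.Agent.Fdesc.LocGen

variable {Z : Scheme.{u}} {IX IW : Z.IdealSheafData}
  (hW : ∀ U : Z.affineOpens, IW.ideal U = (IX.ideal U).annihilator) {w : Z.Modules}
  (hw : PicF.IsInvertible w)

/-- The multiplication `I ⊗ w → w`. -/
noncomputable abbrev μ (I : Z.IdealSheafData) (w : Z.Modules) : CohB1.tensorMod (ClSub.idealMod I) w ⟶ w :=
  mul I w

include hw in
theorem mono_μ (I : Z.IdealSheafData) : Mono (μ I w) :=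
  mono_mul (PerfB.TensInv.isFlat_of_isInvertible hw)

include hW hw in
theorem killed : ClSub.KilledByIdeal IX (CohB1.tensorMod (ClSub.idealMod IW) w) := by
  intro U a ha n
  have hq : Coh.IsQCoh w := (Ega3B.PicTwist.isCoh_of_isInvertible hw).1
  have := mono_μ hw IW
  have h1 : (kπ IW w).app U.1 ((μ IW w).app U.1 n) = 0 := by
    have := congr((Scheme.Modules.Hom.app $(mul_comp_unit (I := IW) w) U.1) n)
    exact this
  have h2 := (kπ_app_eq_zero_iff IW hq U _).1 h1
  have h3 : a • (μ IW w).app U.1 n = 0 := by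
    have key : ∀ y ∈ IW.ideal U • (⊤ : Submodule Γ(Z, U.1) Γ(w, U.1)), a • y = 0 := by
      intro y hy
      refine Submodule.smul_induction_on hy (fun b hb m _ => ?_) (fun y y' h1 h2 => ?_)
      · rw [hW U, Submodule.mem_annihilator] at hb
        have := hb a ha
        rw [← mul_smul, mul_comm, ← smul_eq_mul, this, zero_smul]
      · rw [smul_add, h1, h2, add_zero]
    exact key _ h2
  refine FormalB.KQuot.injective_app_of_mono (μ IW w) U.1 ?_
  refine ((Scheme.Modules.Hom.app_smul (μ IW w) a n).trans h3).trans ?_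
  exact (map_zero ((μ IW w).app U.1).hom).symm

include hW hw in
theorem exists_fac {T : Z.Modules} (hT : Coh.IsQCoh T) (hk : ClSub.KilledByIdeal IX T) (f : T ⟶ w) :
    ∃ g : T ⟶ CohB1.tensorMod (ClSub.idealMod IW) w, g ≫ μ IW w = f := by
  have := mono_μ hw IW
  suffices h : f ≫ cokernel.π (μ IW w) = 0 from ⟨Abelian.monoLift (μ IW w) f h, Abelian.monoLift_comp _ _ _⟩
  refine FormalB.ModPowAff2.eq_zero_of_affine_cover hT _ fun x => ?_
  obtain ⟨U, e, hx, -, hU, he⟩ := Ega2.TensGen.exists_affine_gen hw x (V := ⊤) trivial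
  refine ⟨U, hx, hU, fun t => ?_⟩
  obtain ⟨r, hr⟩ := he.exists_eq (f.app U t)
  have h1 : r ∈ IW.ideal ⟨U, hU⟩ := by
    rw [hW ⟨U, hU⟩, Submodule.mem_annihilator]
    intro a ha
    have h2 : a • f.app U t = 0 :=
      (Scheme.Modules.Hom.app_smul f (U := U) a t).symm.trans
        ((congrArg (f.app U) (hk ⟨U, hU⟩ a ha t)).trans (map_zero (f.app U).hom))
    rw [hr, ← mul_smul] at h2
    rw [smul_eq_mul, mul_comm]
    exact he.ext (h2.trans (zero_smul _ _).symm)
  obtain ⟨s, hs⟩ := Dix.IdealModSec.exists_of_mem IW ⟨U, hU⟩ r h1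
  have h3 : (μ IW w).app U (tm s e) = f.app U t := by
    rw [hr]
    refine (mul_tm (I := IW) (M := w) (U := U) s e).trans ?_
    rw [hs]
  have h4 : (cokernel.π (μ IW w)).app U ((μ IW w).app U (tm s e)) = 0 := by
    have := congr((Scheme.Modules.Hom.app $(cokernel.condition (μ IW w)) U) (tm s e))
    exact this
  rw [h3] at h4
  exact h4

end Groth.Agent.Coherent.K47.LinkMod
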