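import Groth.Agent.Coherent.K47.LinkInv
import Groth.Agent.Coherent.K47.LinkDual
import Groth.Agent.Coherent.K47.LinkMod
import Groth.Agent.Dual.H341.CMSch
import Groth.Agent.CurvesC.KillIdeal

/-!
# `ω_X ≅ i^*(I_W ⊗ ω_Z)`
-/

set_option autoImplicit false
set_option linter.style.haveILetI false
universe u

open CategoryTheory CategoryTheory.Limits AlgebraicGeometry

attribute [local instance] HasDerivedCategory.standard

namespace Groth.Agent.Coherent.K47.LinkOmega

open Groth.Agent.CurvesC LinkDual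

theorem nonempty_iso (k : Type u) [Field k] (Z : Scheme.{u}) (f : Z ⟶ Spec (CommRingCat.of k))
    [IsProper f] (d : ℕ)
    (hZdim : topologicalKrullDim Z ≤ d) (IX : Z.IdealSheafData)
    (IW : Z.IdealSheafData) (hW : ∀ U : Z.affineOpens, IW.ideal U = (IX.ideal U).annihilator)
    [DCoh.HasRpush f] (hZ : DCoh.RpushPreservesQCoh f) [DCoh.HasShriek f hZ]
    [DCoh.HasRpush (IX.subschemeι ≫ f)] (hX : DCoh.RpushPreservesQCoh (IX.subschemeι ≫ f))
    [DCoh.HasShriek (IX.subschemeι ≫ f) hX]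
    (OY : DCoh.DQCoh (Spec (CommRingCat.of k)))
    (hOY : Nonempty (OY.obj ≅ DCoh.inD (Spec (CommRingCat.of k)) (Coh.structureModule (Spec (CommRingCat.of k)))))
    (hinv : PicF.IsInvertible (DCoh.dualizingMod f hZ OY d)) :
    Nonempty (DCoh.dualizingMod (IX.subschemeι ≫ f) hX OY d ≅
      (Scheme.Modules.pullback IX.subschemeι).obj
        (CohB1.tensorMod (ClSub.idealMod IW) (DCoh.dualizingMod f hZ OY d))) := by
  letI : Z.Over (Spec (CommRingCat.of k)) := ⟨f⟩
  letI : IX.subscheme.Over (Spec (CommRingCat.of k)) := ⟨IX.subschemeι ≫ f⟩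
  haveI : IsLocallyNoetherian Z := LocallyOfFiniteType.isLocallyNoetherian f
  haveI : CompactSpace Z := QuasiCompact.compactSpace_of_compactSpace f
  haveI : IsNoetherian Z := {}
  haveI : LocallyOfFiniteType (IX.subschemeι ≫ f) := inferInstance
  haveI : IsLocallyNoetherian IX.subscheme :=
    LocallyOfFiniteType.isLocallyNoetherian (IX.subschemeι ≫ f)
  haveI : CompactSpace IX.subscheme := IX.subschemeι.isClosedEmbedding.compactSpace
  haveI : IsNoetherian IX.subscheme := {}
  have hdX : topologicalKrullDim IX.subscheme ≤ d :=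
    IX.subschemeι.isClosedEmbedding.isInducing.topologicalKrullDim_le.trans hZdim
  haveI : DCoh.HasRpush (Z ↘ (Spec (CommRingCat.of k))) := inferInstanceAs (DCoh.HasRpush f)
  haveI : DCoh.HasShriek (Z ↘ (Spec (CommRingCat.of k))) hZ := inferInstanceAs (DCoh.HasShriek f hZ)
  haveI : DCoh.HasRpush (IX.subscheme ↘ (Spec (CommRingCat.of k))) :=
    inferInstanceAs (DCoh.HasRpush (IX.subschemeι ≫ f))
  haveI : DCoh.HasShriek (IX.subscheme ↘ (Spec (CommRingCat.of k))) hX :=
    inferInstanceAs (DCoh.HasShriek (IX.subschemeι ≫ f) hX)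
  obtain ⟨t, ht⟩ := exists_isDualD k Z hZ OY d hZdim hOY
  obtain ⟨tX, htX⟩ := exists_isDualD k IX.subscheme hX OY d hdX hOY
  have := LinkMod.mono_μ hinv IW
  obtain ⟨j, hj⟩ := bijective_push IX (LinkMod.μ IW (DCoh.dualizingMod f hZ OY d))
    (LinkMod.killed hW hinv) (fun T hT hk g => LinkMod.exists_fac hW hinv hT hk g)
  have h1 := IsDualD.push IX.subschemeι rfl ht j hj
  have hqM : Coh.IsQCoh (CohB1.tensorMod (ClSub.idealMod IW) (DCoh.dualizingMod f hZ OY d)) :=
    Ega2.TensGen.isQCoh_tensor (KillIdeal.isQCoh_idealMod IW) hinv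
  have hqN : Coh.IsQCoh ((Scheme.Modules.pullback IX.subschemeι).obj
      (CohB1.tensorMod (ClSub.idealMod IW) (DCoh.dualizingMod f hZ OY d))) :=
    FormalB.PullCoh.isQuasicoherent_pullback IX.subschemeι _ hqM
  have hqX : Coh.IsQCoh (DCoh.dualizingMod (IX.subschemeι ≫ f) hX OY d) :=
    CurvesC.DualRep.isQCoh_dualizingMod k IX.subscheme hX OY d
  exact htX.nonempty_iso h1 hqX hqN

end Groth.Agent.Coherent.K47.LinkOmega
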