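import Groth.Agent.Coherent.K47.LinkTheta
import Groth.Agent.Coherent.K47.LinkOmega
import Groth.Agent.S8914
import Groth.Agent.ASBun.K791.Tens
import Groth.Agent.Fdesc.LocGenPullback
import Groth.Agent.PicF.K245.DescUnit
import Groth.Agent.Ega2.TensMon
import Groth.Agent.Ega2.TensGen

/-!
# The residual ideal on a Gorenstein scheme is an effective Cartier divisor
-/

set_option autoImplicit false
universe u

open CategoryTheory CategoryTheory.Limits AlgebraicGeometry Opposite

attribute [local instance] HasDerivedCategory.standard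

namespace Groth.Agent.Coherent.K47.LinkCart

open Groth.Agent.Fdesc.LocGen Groth.Agent.Ega2 Groth.Agent.Ega2.TensGen

/-- If `L` and `M ⊗ L` are invertible then so is `M`. -/
theorem isInvertible_of_tensor {X : Scheme.{u}} {M L : X.Modules} (hL : PicF.IsInvertible L)
    (h : PicF.IsInvertible (CohB1.tensorMod M L)) : PicF.IsInvertible M := by
  rw [isInvertible_iff]
  intro x
  obtain ⟨U₁, e₁, hx₁, he₁⟩ := (isInvertible_iff L).mp hL x
  obtain ⟨U₂, e₂, hx₂, he₂⟩ := (isInvertible_iff _).mp h x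
  let U := U₁ ⊓ U₂
  have he : IsGen (res L (inf_le_left : U ≤ U₁) e₁) := he₁.res _
  have hg : IsGen (res _ (inf_le_right : U ≤ U₂) e₂) := he₂.res _
  obtain ⟨t, ht⟩ := exists_eq_tmul (F := M) he (res _ (inf_le_right : U ≤ U₂) e₂)
  refine ⟨U, t, ⟨hx₁, hx₂⟩, fun V hV => ?_⟩
  rw [ht] at hg
  have h1 := hg V hV
  rw [res_tmul] at h1
  have h2 := tmul_gen_bijective (F := M) (he.res hV)
  have h3 : (fun a : Γ(X, V) => a • tmul (res M hV t) (res L hV (res L inf_le_left e₁))) =
      (fun t => tmul t (res L hV (res L inf_le_left e₁))) ∘ (fun a : Γ(X, V) => a • res M hV t) := by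
    funext a
    exact (smul_tmul a _ _).symm
  rw [h3] at h1
  exact (Function.Bijective.of_comp_iff' h2 _).mp h1

section

variable {Z : Scheme.{u}} {IX IW : Z.IdealSheafData}
  (hinf : ∀ U : Z.affineOpens, IX.ideal U ⊓ IW.ideal U = ⊥)
  (hW : ∀ U : Z.affineOpens, IW.ideal U = (IX.ideal U).annihilator)
  (w : Z.Modules)

include hinf hW in
/-- `i^*(I_W ⊗ w) ≅ I_W O_X ⊗ i^* w`. -/
theorem nonempty_pull : Nonempty ((Scheme.Modules.pullback IX.subschemeι).obj
      (CohB1.tensorMod (ClSub.idealMod IW) w) ≅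
    CohB1.tensorMod (ClSub.idealMod (IW.comap IX.subschemeι))
      ((Scheme.Modules.pullback IX.subschemeι).obj w)) :=
  ⟨ASBun.K791.Tens.pullTens IX.subschemeι _ _ ≪≫
    Tens.mapTIso (LinkTheta.isoTheta hinf hW) (Iso.refl _)⟩

include hinf hW in
/-- If `ω ≅ i^*(I_W ⊗ w)` is invertible, with `w` invertible, then `I_W O_X` is effective Cartier and
`ω ≅ i^* w ⊗ I_W O_X`. -/
theorem main {ω : IX.subscheme.Modules} (hw : PicF.IsInvertible w) (hω : PicF.IsInvertible ω)
    (e : ω ≅ (Scheme.Modules.pullback IX.subschemeι).obj (CohB1.tensorMod (ClSub.idealMod IW) w)) :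
    BlowUp.IsEffCartierIdeal (IW.comap IX.subschemeι) ∧
      Nonempty (ω ≅ CohB1.tensorMod ((Scheme.Modules.pullback IX.subschemeι).obj w)
        (ClSub.idealMod (IW.comap IX.subschemeι))) := by
  obtain ⟨e1⟩ := nonempty_pull hinf hW w
  have h1 : PicF.IsInvertible (CohB1.tensorMod (ClSub.idealMod (IW.comap IX.subschemeι))
      ((Scheme.Modules.pullback IX.subschemeι).obj w)) :=
    K245.DescUnit.isInvertible_of_iso (e ≪≫ e1) hω
  have h2 : PicF.IsInvertible ((Scheme.Modules.pullback IX.subschemeι).obj w) :=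
    Fdesc.LocGen.isInvertible_pullback _ hw
  exact ⟨(S8914.result _).1 (isInvertible_of_tensor h2 h1), ⟨e ≪≫ e1 ≪≫ Tens.swap _ _⟩⟩

end

end Groth.Agent.Coherent.K47.LinkCart
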