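import Groth.Agent.Coherent.K47.LinkEuler
import Groth.Agent.Coherent.K47.LinkCart
import Groth.Agent.Surf.K461.ProperForm
import Groth.Agent.CurvesB.CMDimOne
import Groth.Agent.CurvesB.DimPts

/-!
# The genus of a linked curve
-/

set_option autoImplicit false
set_option linter.style.haveILetI false
universe u

open CategoryTheory CategoryTheory.Limits AlgebraicGeometry Opposite

attribute [local instance] HasDerivedCategory.standard

namespace Groth.Agent.Coherent.K47.LinkCurve

open Groth.Agent.CurvesC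

/-- `-2χ(O_X) = m deg O_X(1) - χ(O_{X ∩ W})`. -/
theorem main (k : Type u) [Field k] (n : ℕ) (Z : Scheme.{u}) (j : Z ⟶ CohB1.ProjSpace n k)
    [hp : IsProper (j ≫ CohB1.ProjSpace.toSpec n k)]
    (hZdim : ∀ T ∈ irreducibleComponents (Z : Type u), topologicalKrullDim T = 1)
    (hZgor : ∀ z : Z, LocCoh.IsGorensteinLocalRing (Z.presheaf.stalk z))
    [DCoh.HasRpush (j ≫ CohB1.ProjSpace.toSpec n k)]
    (hZ : DCoh.RpushPreservesQCoh (j ≫ CohB1.ProjSpace.toSpec n k))
    [DCoh.HasShriek (j ≫ CohB1.ProjSpace.toSpec n k) hZ]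
    (OY : DCoh.DQCoh (Spec (CommRingCat.of k)))
    (hOY : Nonempty (OY.obj ≅ DCoh.inD (Spec (CommRingCat.of k)) (Coh.structureModule (Spec (CommRingCat.of k)))))
    (m : ℤ) (hωZ : Nonempty (DCoh.dualizingMod (j ≫ CohB1.ProjSpace.toSpec n k) hZ OY 1 ≅
      (Scheme.Modules.pullback j).obj (Twist.twistProjSpace n k m)))
    (IX : Z.IdealSheafData)
    (hXdim : ∀ T ∈ irreducibleComponents (IX.subscheme : Type u), topologicalKrullDim T = 1)
    (hXcm : ∀ x : IX.subscheme, LocCoh.IsCohenMacaulayLocalRing (IX.subscheme.presheaf.stalk x))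
    (hgen : ∀ T (hT : T ∈ irreducibleComponents (IX.subscheme : Type u)),
      Subsingleton ((ClSub.idealMod IX).presheaf.stalk (IX.subschemeι.base hT.1.genericPoint)))
    (IW : Z.IdealSheafData) (hW : ∀ U : Z.affineOpens, IW.ideal U = (IX.ideal U).annihilator) :
    (-2 : ℤ) * @Curv2.euler k _ IX.subscheme ⟨IX.subschemeι ≫ j ≫ CohB1.ProjSpace.toSpec n k⟩
        (Coh.structureModule IX.subscheme) =
      m * @Curv2.deg k _ IX.subscheme ⟨IX.subschemeι ≫ j ≫ CohB1.ProjSpace.toSpec n k⟩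
        ((Scheme.Modules.pullback (IX.subschemeι ≫ j)).obj (Twist.twistProjSpace n k 1)) 1 -
      @Curv2.euler k _ (IX ⊔ IW).subscheme ⟨(IX ⊔ IW).subschemeι ≫ j ≫ CohB1.ProjSpace.toSpec n k⟩
        (Coh.structureModule (IX ⊔ IW).subscheme) := by
  have hLN : IsLocallyNoetherian Z :=
    LocallyOfFiniteType.isLocallyNoetherian (j ≫ CohB1.ProjSpace.toSpec n k)
  have hinf := LinkInter.inf_eq_bot (Z := Z) (fun z => have := hZgor z; S0341.result _) IX IW hgen hW
  have hω : PicF.IsInvertible (DCoh.dualizingMod (j ≫ CohB1.ProjSpace.toSpec n k) hZ OY 1) :=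
    LinkInv.isInvertible_of_gorenstein k Z _ hZgor 1 (fun T hT => by exact_mod_cast hZdim T hT) hZ OY hOY
  letI o1 : IX.subscheme.Over (Spec (CommRingCat.of k)) := ⟨IX.subschemeι ≫ j ≫ CohB1.ProjSpace.toSpec n k⟩
  have hpX : IsProper (IX.subschemeι ≫ j ≫ CohB1.ProjSpace.toSpec n k) := inferInstance
  have hpX' : IsProper (IX.subscheme ↘ (Spec (CommRingCat.of k))) := hpX
  have hXd : topologicalKrullDim IX.subscheme ≤ 1 := EulerHV.dim_le _ hXdim
  obtain ⟨i1, hX, i2, -, -⟩ := K461.ProperForm.exists_data k IX.subscheme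
  haveI : DCoh.HasRpush (IX.subschemeι ≫ j ≫ CohB1.ProjSpace.toSpec n k) := i1
  haveI : DCoh.HasShriek (IX.subschemeι ≫ j ≫ CohB1.ProjSpace.toSpec n k) hX := i2
  obtain ⟨e⟩ := LinkOmega.nonempty_iso k Z (j ≫ CohB1.ProjSpace.toSpec n k) 1
    (by exact_mod_cast EulerHV.dim_le _ hZdim) IX IW hW hZ hX OY hOY hω
  obtain ⟨e1⟩ := LinkCart.nonempty_pull hinf hW (DCoh.dualizingMod (j ≫ CohB1.ProjSpace.toSpec n k) hZ OY 1)
  obtain ⟨e2⟩ := hωZ
  have e3 : DCoh.dualizingMod (IX.subschemeι ≫ j ≫ CohB1.ProjSpace.toSpec n k) hX OY 1 ≅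
      CohB1.tensorMod (ClSub.idealMod (IW.comap IX.subschemeι))
        ((Scheme.Modules.pullback (IX.subschemeι ≫ j)).obj (Twist.twistProjSpace n k m)) :=
    e ≪≫ e1 ≪≫ Ega2.Tens.mapTIso (Iso.refl _)
      ((Scheme.Modules.pullback IX.subschemeι).mapIso e2 ≪≫
        (Scheme.Modules.pullbackComp IX.subschemeι j).app _)
  have h := LinkEuler.euler_eq k IX.subscheme hXd (IW.comap IX.subschemeι)
    (LinkEuler.dim_inter IX IW hXd hgen hW)
    (L := (Scheme.Modules.pullback (IX.subschemeι ≫ j)).obj (Twist.twistProjSpace n k m))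
    (Fdesc.LocGen.isInvertible_pullback _ (Ega3B.ProjTwist.isInvertible_twistProjSpace n k m)) e3
    (DualEuler.finrank_zero k IX.subscheme hX OY hOY hXd)
    (DualEuler.finrank_one k IX.subscheme hX OY hOY hXd hXcm hXdim)
  rw [LinkEuler.deg_twist k IX.subscheme hXd (IX.subschemeι ≫ j) m,
    LinkEuler.euler_inter k Z (j ≫ CohB1.ProjSpace.toSpec n k) IX IW] at h
  exact h

/-- A reduced Noetherian local ring of dimension at most one is Cohen-Macaulay. -/
theorem cm_of_reduced (A : Type u) [CommRing A] [IsLocalRing A] [IsNoetherianRing A] [_root_.IsReduced A]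
    (h : ringKrullDim A ≤ 1) : LocCoh.IsCohenMacaulayLocalRing A := by
  by_cases h0 : ringKrullDim A = 0
  · exact CurvesB.CMDimOne.of_dim_zero A h0
  · refine CurvesB.CMDimOne.of_dim_one A h fun a ha => ?_
    by_cases hu : a ∈ IsLocalRing.maximalIdeal A
    · exact pow_eq_zero_iff (n := 2) (by norm_num) |>.1 (by rw [pow_two]; exact ha a hu)
    · exfalso
      have hu' : IsUnit a := by
        by_contra hc
        exact hu ((IsLocalRing.mem_maximalIdeal a).2 hc)
      apply h0
      have hF : IsField A := by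
        rw [IsLocalRing.isField_iff_maximalIdeal_eq, eq_bot_iff]
        intro m hm
        have := ha m hm
        exact (hu'.mul_left_eq_zero).1 this
      exact ringKrullDim_eq_zero_of_isField hF

theorem cm_stalk {X : Scheme.{u}} [IsLocallyNoetherian X] [IsReduced X] (h : topologicalKrullDim X ≤ 1) (x : X) :
    LocCoh.IsCohenMacaulayLocalRing (X.presheaf.stalk x) :=
  cm_of_reduced _ ((CurvesB.DimPts.ringKrullDim_stalk_le x).trans h)

end Groth.Agent.Coherent.K47.LinkCurve
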