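import Groth.Agent.Ega4A.CMAss
import Groth.Agent.CalgB.CMPoly
import Groth.Agent.IntSh.K877.Pts
import Groth.Agent.Dix.IdealModSec
import Groth.Agent.Fdesc.LocGen
import Groth.Agent.Ega1.LocNoethNhd
import Groth.Prelude.Def_ClSub2

/-!
# `I_X ∩ (0 : I_X) = 0`

`Z` locally Noetherian with Cohen-Macaulay local rings, `X = V(I_X)` a closed subscheme equal to `Z` at the generic
points of its irreducible components.
-/

set_option autoImplicit false
universe u

open CategoryTheory CategoryTheory.Limits AlgebraicGeometry Opposite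

namespace Groth.Agent.Coherent.K47.LinkInter

/-- A nonzero function on an affine open of a Cohen-Macaulay scheme is nonzero at a maximal point. -/
theorem exists_point {Z : Scheme.{u}} [IsLocallyNoetherian Z]
    (hCM : ∀ z : Z, LocCoh.IsCohenMacaulayLocalRing (Z.presheaf.stalk z)) {U : Z.Opens} (hU : IsAffineOpen U)
    (a : Γ(Z, U)) (ha : a ≠ 0) : ∃ (z : Z) (hz : z ∈ U), ringKrullDim (Z.presheaf.stalk z) = 0 ∧
      (∀ b : Γ(Z, U), b * a = 0 → b ∈ (hU.primeIdealOf ⟨z, hz⟩).asIdeal) := by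
  have hN : IsNoetherianRing Γ(Z, U) := IsLocallyNoetherian.component_noetherian ⟨U, hU⟩
  obtain ⟨P, hP, hle⟩ := exists_le_isAssociatedPrime_of_isNoetherianRing Γ(Z, U) a ha
  have hPp : P.IsPrime := hP.isPrime
  let y : PrimeSpectrum Γ(Z, U) := ⟨P, hPp⟩
  have hz : hU.fromSpec y ∈ U := by
    have : hU.fromSpec y ∈ hU.fromSpec.opensRange := ⟨y, rfl⟩
    rwa [hU.opensRange_fromSpec] at this
  have hloc : @IsLocalization.AtPrime _ _ (Z.presheaf.stalk (hU.fromSpec y)) _
      (TopCat.Presheaf.algebra_section_stalk Z.presheaf _) y.asIdeal y.2 := hU.isLocalization_stalk' y hz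
  let _ := TopCat.Presheaf.algebra_section_stalk Z.presheaf (⟨hU.fromSpec y, hz⟩ : U)
  have hloc' : IsLocalization.AtPrime (Z.presheaf.stalk (hU.fromSpec y)) P := hloc
  have hCM' := hCM (hU.fromSpec y)
  let e : Z.presheaf.stalk (hU.fromSpec y) ≃+* Localization.AtPrime P :=
    (IsLocalization.algEquiv P.primeCompl (Z.presheaf.stalk (hU.fromSpec y)) (Localization.AtPrime P)).toRingEquiv
  have h1 : LocCoh.IsCohenMacaulayLocalRing (Localization.AtPrime P) :=
    CalgB.CMPoly.isCohenMacaulayLocalRing_of_ringEquiv e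
  have h2 : P ∈ minimalPrimes Γ(Z, U) := Ega4A.CMAss.mem_minimalPrimes_of_isCohenMacaulayLocalRing P h1 hP
  refine ⟨hU.fromSpec y, hz, ?_, fun b hb => ?_⟩
  · rw [ringKrullDim_eq_of_ringEquiv e, IsLocalization.AtPrime.ringKrullDim_eq_height P]
    have : P.height = 0 := Ideal.height_eq_zero_iff.2 h2
    rw [this]
    rfl
  · have h3 : hU.primeIdealOf ⟨hU.fromSpec y, hz⟩ = y := by
      apply hU.fromSpec.isOpenEmbedding.injective
      exact hU.fromSpec_primeIdealOf _
    rw [h3]
    exact hle (by rw [Submodule.mem_colon_singleton, Submodule.mem_bot]; exact hb)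

/-- The generic point of the closure of `x` is `x`. -/
theorem genericPoint_closure {X : Scheme.{u}} (x : X) (h : IsIrreducible (closure {x})) :
    h.genericPoint = x := by
  have h1 := h.isGenericPoint_genericPoint_closure
  rw [closure_closure] at h1
  exact h1.eq isGenericPoint_closure

/-- If the stalk of `I_X` at `z` vanishes, functions in `I_X` are killed by functions not vanishing at `z`. -/
theorem exists_mul_eq_zero {Z : Scheme.{u}} (IX : Z.IdealSheafData) (U : Z.affineOpens) (z : Z) (hz : z ∈ U.1)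
    (h3 : Subsingleton ((ClSub.idealMod IX).presheaf.stalk z)) (a : Γ(Z, U.1)) (haX : a ∈ IX.ideal U) :
    ∃ c : Γ(Z, U.1), c ∉ (U.2.primeIdealOf ⟨z, hz⟩).asIdeal ∧ c * a = 0 := by
  obtain ⟨s, hs⟩ := Dix.IdealModSec.exists_of_mem IX U a haX
  have h4 : (ClSub.idealMod IX).presheaf.germ U.1 z hz s =
      (ClSub.idealMod IX).presheaf.germ U.1 z hz 0 := Subsingleton.elim _ _
  obtain ⟨V, hxV, i1, i2, h5⟩ := (ClSub.idealMod IX).presheaf.germ_eq (U := U.1) (V := U.1) _ hz hz s 0 h4
  have h6 : Z.presheaf.map i1.op a = 0 := by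
    rw [← hs]
    have h7 := Fdesc.LocGen.app_res (ClSub.idealModι IX) i1.le s
    rw [map_zero] at h5
    have h8 : Fdesc.LocGen.res (ClSub.idealMod IX) i1.le s = 0 := h5
    rw [h8, map_zero] at h7
    exact h7.symm
  have h9 : Z.presheaf.germ U.1 z hz a = 0 := by
    rw [← TopCat.Presheaf.germ_res_apply Z.presheaf i1 _ hxV a, h6, map_zero]
  let _ := TopCat.Presheaf.algebra_section_stalk Z.presheaf (⟨z, hz⟩ : U.1)
  have hloc := U.2.isLocalization_stalk ⟨z, hz⟩
  have h10 : algebraMap Γ(Z, U.1) (Z.presheaf.stalk z) a =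
      algebraMap Γ(Z, U.1) (Z.presheaf.stalk z) 0 := by
    rw [map_zero]
    exact h9
  obtain ⟨c, hc⟩ := (IsLocalization.eq_iff_exists
    (U.2.primeIdealOf ⟨z, hz⟩).asIdeal.primeCompl _).1 h10
  rw [mul_zero] at hc
  exact ⟨c.1, c.2, hc⟩

/-- A point where the stalk of `I_X` vanishes is not in the residual scheme. -/
theorem notMem_support {Z : Scheme.{u}} [IsLocallyNoetherian Z] (IX IW : Z.IdealSheafData)
    (hW : ∀ U : Z.affineOpens, IW.ideal U = (IX.ideal U).annihilator) (z : Z)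
    (h3 : Subsingleton ((ClSub.idealMod IX).presheaf.stalk z)) : z ∉ IW.support := by
  obtain ⟨_, ⟨V, hV, rfl⟩, hz, -⟩ := Z.isBasis_affineOpens.exists_subset_of_mem_open (Set.mem_univ z) isOpen_univ
  intro hzW
  let U : Z.affineOpens := ⟨V, hV⟩
  have hN : IsNoetherianRing Γ(Z, U.1) := IsLocallyNoetherian.component_noetherian U
  rw [Scheme.IdealSheafData.mem_support_iff_of_mem (U := U) hz, Scheme.mem_zeroLocus_iff] at hzW
  have h1 : Module.annihilator Γ(Z, U.1) (IX.ideal U) ≤ (U.2.primeIdealOf ⟨z, hz⟩).asIdeal := by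
    intro b hb
    have hb' : b ∈ IW.ideal U := by
      rw [hW U]
      exact hb
    by_contra hbp
    exact hzW b hb' ((Ega1.LocNoethNhd.mem_basicOpen_iff_notMem_primeIdealOf U.2 ⟨z, hz⟩ b).2 hbp)
  have h2 := Module.mem_support_iff_of_finite (R := Γ(Z, U.1)) (M := IX.ideal U)
    (p := U.2.primeIdealOf ⟨z, hz⟩) |>.2 h1
  obtain ⟨m, hm⟩ := Module.mem_support_iff'.1 h2
  obtain ⟨c, hc, hcm⟩ := exists_mul_eq_zero IX U z hz h3 m.1 m.2
  refine hm c hc ?_
  ext
  exact hcm

/-- `I_X ∩ (0 : I_X) = 0`. -/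
theorem inf_eq_bot {Z : Scheme.{u}} [IsLocallyNoetherian Z]
    (hCM : ∀ z : Z, LocCoh.IsCohenMacaulayLocalRing (Z.presheaf.stalk z)) (IX IW : Z.IdealSheafData)
    (hgen : ∀ T (hT : T ∈ irreducibleComponents (IX.subscheme : Type u)),
      Subsingleton ((ClSub.idealMod IX).presheaf.stalk (IX.subschemeι.base hT.1.genericPoint)))
    (hW : ∀ U : Z.affineOpens, IW.ideal U = (IX.ideal U).annihilator) (U : Z.affineOpens) :
    IX.ideal U ⊓ IW.ideal U = ⊥ := by
  rw [eq_bot_iff]
  rintro a ⟨haX, haW⟩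
  rw [Ideal.mem_bot]
  by_contra ha
  obtain ⟨z, hz, hdim, hann⟩ := exists_point hCM U.2 a ha
  have haW' : ∀ b ∈ IX.ideal U, b * a = 0 := by
    intro b hb
    have h := haW
    rw [hW U] at h
    have := Submodule.mem_annihilator.1 h b hb
    rwa [smul_eq_mul, mul_comm] at this
  by_cases hzX : z ∈ IX.support
  · obtain ⟨x, rfl⟩ : z ∈ Set.range IX.subschemeι := by
      rw [IX.range_subschemeι]
      exact hzX
    have hdx : ringKrullDim (IX.subscheme.presheaf.stalk x) = 0 := by
      have h1 : Function.Surjective (IX.subschemeι.stalkMap x).hom := IX.subschemeι.stalkMap_surjective x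
      have h2 := ringKrullDim_le_of_surjective _ h1
      rw [hdim] at h2
      exact le_antisymm h2 ringKrullDim_nonneg_of_nontrivial
    have hT := IntSh.K877.Pts.closure_mem_irreducibleComponents hdx
    have h3 := hgen _ hT
    rw [genericPoint_closure x hT.1] at h3
    obtain ⟨c, hc, hca⟩ := exists_mul_eq_zero IX U _ hz h3 a haX
    exact hc (hann c hca)
  · rw [Scheme.IdealSheafData.mem_support_iff_of_mem (U := U) hz, Scheme.mem_zeroLocus_iff] at hzX
    push_neg at hzX
    obtain ⟨b, hb, hzb⟩ := hzX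
    exact (Ega1.LocNoethNhd.mem_basicOpen_iff_notMem_primeIdealOf U.2 ⟨z, hz⟩ b).1 hzb (hann b (haW' b hb))

end Groth.Agent.Coherent.K47.LinkInter
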