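import Groth.Agent.CurvesC.DualEuler
import Groth.Agent.CurvesC.EulerHV
import Groth.Agent.CurvesC.DegIso
import Groth.Agent.Surf.K464.Base
import Groth.Agent.CurvesB.TwistIdeal
import Groth.Agent.VarietyB.ClosedInter
import Groth.Agent.Fga.DimCut
import Groth.Agent.S7637
import Groth.Agent.Ega3B.ProjTwist
import Groth.Agent.ASBun.K791.Tens
import Groth.Agent.Coherent.K47.LinkInter

/-!
# Euler characteristics of linked curves
-/

set_option autoImplicit false
universe u

open CategoryTheory CategoryTheory.Limits AlgebraicGeometry Opposite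

attribute [local instance] HasDerivedCategory.standard

namespace Groth.Agent.Coherent.K47.LinkEuler

open Groth.Agent.CurvesC

section Deg

variable (k : Type u) [Field k] (X : Scheme.{u}) [X.Over (Spec (CommRingCat.of k))]
  [IsProper (X ↘ (Spec (CommRingCat.of k)))]

theorem deg_tensor (hdim : topologicalKrullDim X ≤ 1) {L M : X.Modules} (hL : PicF.IsInvertible L)
    (hM : PicF.IsInvertible M) :
    Curv2.deg k X (CohB1.tensorMod L M) 1 = Curv2.deg k X L 1 + Curv2.deg k X M 1 := by
  have h := S7637.result k X hdim 1 1 L M (Ega2.QCohLocal.isFinLocFreeOfRank_one_iff.2 hL)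
    (Ega2.QCohLocal.isFinLocFreeOfRank_one_iff.2 hM)
  rw [one_mul] at h
  rw [h]
  push_cast
  ring

/-- `deg O_X(m) = m deg O_X(1)`. -/
theorem deg_twist (hdim : topologicalKrullDim X ≤ 1) {n : ℕ} (j : X ⟶ CohB1.ProjSpace n k) (m : ℤ) :
    Curv2.deg k X ((Scheme.Modules.pullback j).obj (Twist.twistProjSpace n k m)) 1 =
      m * Curv2.deg k X ((Scheme.Modules.pullback j).obj (Twist.twistProjSpace n k 1)) 1 := by
  have hinv : ∀ e : ℤ, PicF.IsInvertible ((Scheme.Modules.pullback j).obj (Twist.twistProjSpace n k e)) :=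
    fun e => Fdesc.LocGen.isInvertible_pullback j (Ega3B.ProjTwist.isInvertible_twistProjSpace n k e)
  have hadd : ∀ a b : ℤ, Curv2.deg k X ((Scheme.Modules.pullback j).obj (Twist.twistProjSpace n k (a + b))) 1 =
      Curv2.deg k X ((Scheme.Modules.pullback j).obj (Twist.twistProjSpace n k a)) 1 +
        Curv2.deg k X ((Scheme.Modules.pullback j).obj (Twist.twistProjSpace n k b)) 1 := by
    intro a b
    obtain ⟨e⟩ := ASBun.K791.Tens.twistProj_mul n k a b
    rw [← deg_tensor k X hdim (hinv a) (hinv b)]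
    exact DegIso.deg_congr k ((Scheme.Modules.pullback j).mapIso e.symm ≪≫
      ASBun.K791.Tens.pullTens j _ _) 1
  let φ : ℤ →+ ℤ :=
    { toFun := fun e => Curv2.deg k X ((Scheme.Modules.pullback j).obj (Twist.twistProjSpace n k e)) 1
      map_zero' := by
        have h := hadd 0 0
        rw [add_zero] at h
        omega
      map_add' := hadd }
  have h1 := map_zsmul φ m 1
  rw [smul_eq_mul, mul_one, smul_eq_mul] at h1
  exact h1

/-- `-2χ(O_X) = deg L - χ(O_D)` if `ω ≅ I_D ⊗ L`. -/
theorem euler_eq (hdim : topologicalKrullDim X ≤ 1) (D : X.IdealSheafData)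
    (hD : topologicalKrullDim (D.support : Set X) ≤ 0) {L ω : X.Modules} (hL : PicF.IsInvertible L)
    (e : ω ≅ CohB1.tensorMod (ClSub.idealMod D) L)
    (h0 : Module.finrank k (HV X ω 0) = Module.finrank k (HV X (Coh.structureModule X) 1))
    (h1 : Module.finrank k (HV X ω 1) = Module.finrank k (HV X (Coh.structureModule X) 0)) :
    (-2 : ℤ) * Curv2.euler k X (Coh.structureModule X) =
      Curv2.deg k X L 1 - Curv2.euler k X (ClSub.quotMod D) := by
  have hω : Curv2.euler k X ω = - Curv2.euler k X (Coh.structureModule X) := by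
    rw [EulerHV.euler_eq k X hdim ω, EulerHV.euler_eq k X hdim (Coh.structureModule X), h0, h1]
    ring
  rw [DegIso.euler_congr k e] at hω
  have h2 := K464.Base.euler_quotMod_tensor k X D hL
  have h3 := S1558.result k X (ClSub.quotMod D) (VarietyB.DegCartier.isCoh_quotMod D)
    (CurvesB.TwistIdeal.dim_support_quotMod D hD) 1 L (Ega2.QCohLocal.isFinLocFreeOfRank_one_iff.2 hL)
  unfold Curv2.deg
  push_cast at h3 ⊢
  linarith

end Deg

/-- `χ(O_{V(W|_X)}) = χ(O_{X ∩ W})`. -/
theorem euler_inter (k : Type u) [Field k] (Z : Scheme.{u}) (f : Z ⟶ Spec (CommRingCat.of k))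
    (IX IW : Z.IdealSheafData) :
    @Curv2.euler k _ IX.subscheme ⟨IX.subschemeι ≫ f⟩ (ClSub.quotMod (IW.comap IX.subschemeι)) =
      @Curv2.euler k _ (IX ⊔ IW).subscheme ⟨(IX ⊔ IW).subschemeι ≫ f⟩
        (Coh.structureModule (IX ⊔ IW).subscheme) := by
  letI o1 : IX.subscheme.Over (Spec (CommRingCat.of k)) := ⟨IX.subschemeι ≫ f⟩
  letI o2 : (IX ⊔ IW).subscheme.Over (Spec (CommRingCat.of k)) := ⟨(IX ⊔ IW).subschemeι ≫ f⟩
  letI o3 : (IW.comap IX.subschemeι).subscheme.Over (Spec (CommRingCat.of k)) :=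
    ⟨(IW.comap IX.subschemeι).subschemeι ≫ IX.subschemeι ≫ f⟩
  have h1 := DegIso.euler_push k (IW.comap IX.subschemeι).subschemeι rfl
    (Coh.structureModule (IW.comap IX.subschemeι).subscheme)
  refine h1.trans ?_
  have hsup : IW ⊔ IX.subschemeι.ker = IX ⊔ IW := by
    rw [IX.ker_subschemeι, sup_comm]
  let e : (IW.comap IX.subschemeι).subscheme ≅ (IX ⊔ IW).subscheme :=
    VarietyB.ClosedInter.interIso IX.subschemeι IW ≪≫
      eqToIso (congrArg Scheme.IdealSheafData.subscheme hsup)
  have he : e.hom ≫ (IX ⊔ IW).subschemeι = (IW.comap IX.subschemeι).subschemeι ≫ IX.subschemeι := by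
    simp only [e, Iso.trans_hom, Category.assoc]
    rw [VarietyB.ClosedInter.eqToIso_subschemeι hsup, VarietyB.ClosedInter.interIso_hom]
  have h2 := DegIso.euler_pullback_iso k e
    (by
      change e.hom ≫ (IX ⊔ IW).subschemeι ≫ f = (IW.comap IX.subschemeι).subschemeι ≫ IX.subschemeι ≫ f
      rw [← Category.assoc, he, Category.assoc])
    (Coh.structureModule (IX ⊔ IW).subscheme)
  rw [← h2]
  exact DegIso.euler_congr k (CurvesA.HHMap.pullbackUnit e.hom).symm

/-- The intersection of `X` with the residual scheme has dimension `≤ 0`. -/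
theorem dim_inter {Z : Scheme.{u}} [IsLocallyNoetherian Z] (IX IW : Z.IdealSheafData)
    (hdim : topologicalKrullDim IX.subscheme ≤ 1)
    (hgen : ∀ T (hT : T ∈ irreducibleComponents (IX.subscheme : Type u)),
      Subsingleton ((ClSub.idealMod IX).presheaf.stalk (IX.subschemeι.base hT.1.genericPoint)))
    (hW : ∀ U : Z.affineOpens, IW.ideal U = (IX.ideal U).annihilator) :
    topologicalKrullDim ((IW.comap IX.subschemeι).support : Set IX.subscheme) ≤ 0 := by
  refine (Fga.DimCut.dim_le_of_forall_not_subset _ (IW.comap IX.subschemeι).support.isClosed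
    (fun T hT hTD => ?_) 0 (by simpa using hdim))
  have hx : hT.1.genericPoint ∈ (IW.comap IX.subschemeι).support := by
    apply hTD
    have h1 := hT.1.isGenericPoint_genericPoint_closure
    have h2 : closure T = T := (isClosed_of_mem_irreducibleComponents T hT).closure_eq
    rw [h2] at h1
    exact h1.mem
  have hz : IX.subschemeι hT.1.genericPoint ∈ IW.support := by
    rw [Scheme.IdealSheafData.support_comap] at hx
    exact hx
  exact LinkInter.notMem_support IX IW hW _ (hgen T hT) hz

end Groth.Agent.Coherent.K47.LinkEuler
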