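import Groth.Agent.S3620
import Groth.Agent.S3637
import Groth.Agent.S0341
import Groth.Agent.Dual.H375.OneDeg
import Groth.Agent.Dual.H341.HypField
import Groth.Prelude.Def_Pic

/-!
# The dualizing module of a proper Gorenstein equidimensional scheme over a field is invertible
-/

set_option autoImplicit false
universe u

open CategoryTheory CategoryTheory.Limits AlgebraicGeometry

attribute [local instance] HasDerivedCategory.standard

namespace Groth.Agent.Coherent.K47.LinkInv

open Groth.Agent.Dual.H375.OneDeg Groth.Agent.PerfA.Restrict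

/-- `H^{-n}(O[n]) ≅ O`. -/
noncomputable def hdShiftO (X : Scheme.{u}) (n : ℤ) :
    DCoh.HD ((DCoh.inD X (Coh.structureModule X))⟦n⟧) (-n) ≅ Coh.structureModule X :=
  ((DerivedCategory.homologyFunctor X.Modules 0).shiftIso n (-n) 0 (by omega)).app _ ≪≫
    (DerivedCategory.singleFunctorCompHomologyFunctorIso X.Modules 0).app (Coh.structureModule X)

/-- If `K` is invertible in `D(O_X)` and `H^{-d}(K)` has nonzero stalks everywhere, then `H^{-d}(K)` is
invertible. -/
theorem isInvertible_HD {X : Scheme.{u}} (K : DCoh.D X) (d : ℤ)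
    [∀ (U V : Scheme.{u}) (j : U ⟶ V) [IsOpenImmersion j],
      PreservesFiniteLimits (Scheme.Modules.restrictFunctor j)]
    (hK : Dual3.IsInvertibleD K) (hs : ∀ x : X, Nontrivial ((DCoh.HD K (-d)).presheaf.stalk x)) :
    PicF.IsInvertible (DCoh.HD K (-d)) := by
  intro x
  obtain ⟨U, n, hx, ⟨e⟩⟩ := hK x
  refine ⟨U, hx, ?_⟩
  have e1 : ∀ k : ℤ, DCoh.HD ((DCoh.inD (U : Scheme.{u}) (Coh.structureModule (U : Scheme.{u})))⟦n⟧) k ≅
      (DCoh.HD K k).restrict U.ι := fun k =>
    (DerivedCategory.homologyFunctor _ k).mapIso e.symm ≪≫ HDrestrict U.ι K k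
  have h2 := nontrivial_stalk_shift (U : Scheme.{u}) n (-d) ⟨x, hx⟩
  rw [nontrivial_stalk_congr (e1 (-d)), nontrivial_stalk_restrict U.ι] at h2
  have h3 : -d = -n := h2.1 (hs x)
  have h4 : n = d := by omega
  subst h4
  exact ⟨(e1 (-n)).symm ≪≫ hdShiftO _ n⟩

/-- The dualizing module of a proper Gorenstein equidimensional scheme over a field is invertible. -/
theorem isInvertible_of_gorenstein (k : Type u) [Field k] (X : Scheme.{u}) (f : X ⟶ Spec (CommRingCat.of k))
    [IsProper f] (hG : ∀ x : X, LocCoh.IsGorensteinLocalRing (X.presheaf.stalk x)) (d : ℕ)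
    (hd : ∀ T ∈ irreducibleComponents (X : Type u), topologicalKrullDim T = d) [DCoh.HasRpush f]
    (hf : DCoh.RpushPreservesQCoh f) [DCoh.HasShriek f hf] (O : DCoh.DQCoh (Spec (CommRingCat.of k)))
    (hO : Nonempty (O.obj ≅ DCoh.inD (Spec (CommRingCat.of k)) (Coh.structureModule (Spec (CommRingCat.of k))))) :
    PicF.IsInvertible (DCoh.dualizingMod f hf O d) := by
  have hLN : IsLocallyNoetherian X := LocallyOfFiniteType.isLocallyNoetherian f
  have hK := Groth.Agent.Dual.H341.HypField.isDualizingSch k X f hf _ (DCoh.shriekAdj f hf) O hO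
  have h1 : Dual3.IsInvertibleD ((DCoh.shriek f hf).obj O).obj :=
    (S3620.result X _ hK).1 ⟨inferInstance, hG⟩
  have h2 := (S3637.result k X f (fun x => have := hG x; S0341.result _) d (fun T hT => hd T hT) hf _
    (DCoh.shriekAdj f hf) O hO).2.2
  exact isInvertible_HD _ d h1 fun x => (h2 x).1

end Groth.Agent.Coherent.K47.LinkInv
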