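import Groth.Agent.Coherent.K47.LinkInter
import Groth.Agent.Pic13.H945.IdealPull
import Groth.Agent.FormalB.TrKQuot
import Groth.Agent.Sga67.LocBasis

/-!
# `i^* I_W ≅ I_W O_X` when `I_W ∩ I_X = 0` and `I_W I_X = 0`
-/

set_option autoImplicit false
universe u

open CategoryTheory CategoryTheory.Limits AlgebraicGeometry Opposite

namespace Groth.Agent.Coherent.K47.LinkTheta

open Groth.Agent.Pic13.H945.IdealPull Groth.Agent.Dix.IdealModSec Groth.Agent.Dix.IdealModCartier

variable {Z : Scheme.{u}} {IX IW : Z.IdealSheafData}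

theorem bijective_psi_app (hinf : ∀ U : Z.affineOpens, IX.ideal U ⊓ IW.ideal U = ⊥) (U : Z.affineOpens) :
    Function.Bijective ((psi IX.subschemeι IW).app U.1) := by
  have hq : ∀ s : Γ(ClSub.idealMod IW, U.1), val (IW.comap IX.subschemeι) ((psi IX.subschemeι IW).app U.1 s) =
      IX.subschemeι.app U.1 (val IW s) := by
    intro s
    rw [psi_app, val_pullVal, Scheme.Hom.appLE_eq_app]
  constructor
  · rw [injective_iff_map_eq_zero]
    intro s hs
    have h1 : IX.subschemeι.app U.1 (val IW s) = 0 := by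
      rw [← hq s, hs]
      exact val_zero _
    have h2 : val IW s ∈ IX.ideal U := by
      rw [← IX.ker_subschemeι_app U, RingHom.mem_ker]
      exact h1
    have h3 : val IW s ∈ IX.ideal U ⊓ IW.ideal U := ⟨h2, val_mem IW U s⟩
    rw [hinf U, Ideal.mem_bot] at h3
    apply val_injective IW
    rw [h3]
    exact (val_zero _).symm
  · intro t
    let V : IX.subscheme.affineOpens := ⟨IX.subschemeι ⁻¹ᵁ U.1, U.2.preimage _⟩
    have h1 : val (IW.comap IX.subschemeι) (U := V.1) t ∈ (IW.comap IX.subschemeι).ideal V :=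
      val_mem (IW.comap IX.subschemeι) V t
    rw [Divis.IdealComap.ideal_comap IW IX.subschemeι U V le_rfl, Scheme.Hom.appLE_eq_app,
      Ideal.mem_map_iff_of_surjective _ (IX.subschemeι_app_surjective U)] at h1
    obtain ⟨a, ha, hat⟩ := h1
    obtain ⟨s, hs⟩ := exists_val_eq IW U ha
    refine ⟨s, ?_⟩
    apply val_injective (IW.comap IX.subschemeι)
    rw [hq s, hs]
    exact hat

theorem isIso_psi (hinf : ∀ U : Z.affineOpens, IX.ideal U ⊓ IW.ideal U = ⊥) : IsIso (psi IX.subschemeι IW) := by
  refine Groth.Agent.Sga67.LocBasis.isIso_of_bijective _ fun x U hxU => ?_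
  obtain ⟨_, ⟨V, hV, rfl⟩, hxV, hVU⟩ := Z.isBasis_affineOpens.exists_subset_of_mem_open hxU U.isOpen
  exact ⟨V, hVU, hxV, bijective_psi_app hinf ⟨V, hV⟩⟩

theorem isIso_theta (hinf : ∀ U : Z.affineOpens, IX.ideal U ⊓ IW.ideal U = ⊥)
    (hk : ClSub.KilledByIdeal IX (ClSub.idealMod IW)) : IsIso (theta IX.subschemeι IW) := by
  have h1 := isIso_psi hinf
  have h2 : IsIso ((Scheme.Modules.pullbackPushforwardAdjunction IX.subschemeι).unit.app (ClSub.idealMod IW)) :=
    FormalB.TrKQuot.isIso_kπ IX hk
  have h3 : IsIso ((Scheme.Modules.pullbackPushforwardAdjunction IX.subschemeι).unit.app (ClSub.idealMod IW) ≫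
      (Scheme.Modules.pushforward IX.subschemeι).map (theta IX.subschemeι IW)) := by
    rw [unit_theta]
    exact h1
  have h4 : IsIso ((Scheme.Modules.pushforward IX.subschemeι).map (theta IX.subschemeι IW)) :=
    IsIso.of_isIso_comp_left
      ((Scheme.Modules.pullbackPushforwardAdjunction IX.subschemeι).unit.app (ClSub.idealMod IW)) _
  have h5 := FormalB.TrKQuot.faithful_pushforward IX.subschemeι
  have hm : Mono (theta IX.subschemeι IW) :=
    (Scheme.Modules.pushforward IX.subschemeι).mono_of_mono_map inferInstance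
  have he : Epi (theta IX.subschemeι IW) :=
    (Scheme.Modules.pushforward IX.subschemeι).epi_of_epi_map inferInstance
  exact isIso_of_mono_of_epi _

theorem killed_idealMod (hW : ∀ U : Z.affineOpens, IW.ideal U = (IX.ideal U).annihilator) :
    ClSub.KilledByIdeal IX (ClSub.idealMod IW) := by
  intro U a ha m
  apply val_injective IW
  have h1 := val_smul IW a m
  have h2 := val_mem IW U m
  rw [hW U] at h2
  have h3 := Submodule.mem_annihilator.1 h2 a ha
  rw [smul_eq_mul, mul_comm] at h3
  exact (h1.trans h3).trans (val_zero _).symm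

/-- `i^* I_W ≅ I_W O_X`. -/
noncomputable def isoTheta (hinf : ∀ U : Z.affineOpens, IX.ideal U ⊓ IW.ideal U = ⊥)
    (hW : ∀ U : Z.affineOpens, IW.ideal U = (IX.ideal U).annihilator) :
    (Scheme.Modules.pullback IX.subschemeι).obj (ClSub.idealMod IW) ≅ ClSub.idealMod (IW.comap IX.subschemeι) :=
  haveI := isIso_theta hinf (killed_idealMod hW)
  asIso (theta IX.subschemeι IW)

end Groth.Agent.Coherent.K47.LinkTheta
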