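import Groth.Agent.CohqB.HomSheafMap
import Groth.Agent.CohqB.HomSheafQCoh

/-!
# Sections of the internal Hom over `U` as morphisms of restrictions
-/

set_option autoImplicit false
universe u

open CategoryTheory CategoryTheory.Limits AlgebraicGeometry Opposite

namespace Groth.Agent.Coherent.K47.ToRestrict

open Groth.Agent.CohqB.HomSheaf

variable {X Y : Scheme.{u}} {M N : X.Modules} (j : Y ⟶ X) [IsOpenImmersion j]

theorem image_le {U : X.Opens} (hU : j.opensRange ≤ U) (V : Y.Opens) : j ''ᵁ V ≤ U :=
  le_trans (by rintro _ ⟨y, _, rfl⟩; exact ⟨y, rfl⟩) hU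

/-- A section of `Hom(M, N)` over `U` gives a morphism `M|_Y ⟶ N|_Y` for every open immersion `Y ⟶ X`
with range in `U`. -/
noncomputable def toRestrict {U : X.Opens} (s : Γ(homSheaf M N, U)) (hU : j.opensRange ≤ U) :
    (Scheme.Modules.restrictFunctor j).obj M ⟶ (Scheme.Modules.restrictFunctor j).obj N :=
  homMkSec (M.restrict j) (N.restrict j)
    (fun V => (comp s (j ''ᵁ V) (image_le j hU V)).toAddMonoidHom)
    (fun V r m => by
      have h1 : (r • m : Γ(M.restrict j, V)) =
        (((j.appIso V).inv r • (show Γ(M, j ''ᵁ V) from m) : Γ(M, j ''ᵁ V))) := rfl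
      change comp s (j ''ᵁ V) (image_le j hU V) (r • m) = _
      exact (congrArg _ h1).trans ((comp s (j ''ᵁ V) (image_le j hU V)).map_smul _ _))
    (fun V W h m => comp_map s (image_le j hU V) (j.image_mono h) m)

theorem toRestrict_app {U : X.Opens} (s : Γ(homSheaf M N, U)) (hU : j.opensRange ≤ U) (V : Y.Opens)
    (m : Γ(M, j ''ᵁ V)) :
    (toRestrict j s hU).app V (show Γ((Scheme.Modules.restrictFunctor j).obj M, V) from m) =
      comp s (j ''ᵁ V) (image_le j hU V) m := rfl

end Groth.Agent.Coherent.K47.ToRestrict
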